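import Cfsg.Agent.H644.KGV.Goals
import Cfsg.Agent.H688.KGV.UIntBasic
import Cfsg.Agent.H532.CopAct

/-!
# The class function `κ` for a `p'`-group acting on an arbitrary `p`-group

From `ExistsK` (faithful action on an elementary abelian group) we get `κ` for a `p'`-subgroup `K`
acting on a normal `p`-subgroup `A` of any finite group, by multiplying over a series.
-/

set_option autoImplicit false
set_option linter.unusedSectionVars false

open Cfsg Finset

namespace Cfsg.Agent.H591.TI

open Cfsg.Agent.H644.KGV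

universe u

/-- The properties of `κ`. -/
structure KapOn (p : ℕ) [NeZero p] {Q : Type u} [Group Q] (A K : Subgroup Q)
    (κ : ZMod p → K → ℂ) : Prop where
  uint : UInt p K κ
  norm : ∀ a, a ≠ 0 → ∀ k : K, ‖κ a k‖ ^ 2 *
    (Nat.card ↥(A ⊓ Subgroup.centralizer ({(k : Q)} : Set Q)) : ℝ) = (Nat.card A : ℝ)
  one : ∀ a, a ≠ 0 → ∀ k : K, (k : Q) ∈ Subgroup.centralizer (A : Set Q) → κ a k = 1
  ideal : ∀ a, a ≠ 0 → ∀ k : K, (k : Q) ∉ Subgroup.centralizer (A : Set Q) →
    ∃ y : ℂ, IsIntegral ℤ y ∧ κ a k = (1 - (ZMod.stdAddChar (1 : ZMod p) : ℂ)) * y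

/-- The elementary abelian case. -/
theorem kapOn_elementary (hE : ExistsK.{u}) (p : ℕ) [hp : Fact p.Prime] {Q : Type u} [Group Q]
    [Finite Q] (W K : Subgroup Q) [W.Normal] (hWp : ∀ w ∈ W, w ^ p = 1)
    (hWc : ∀ v ∈ W, ∀ w ∈ W, v * w = w * v) (hK : ¬ p ∣ Nat.card K) :
    ∃ κ : ZMod p → K → ℂ, KapOn p W K κ := by
  classical
  let φ : K →* MulAut W := MulAut.conjNormal.comp K.subtype
  have hφ : ∀ (k : K) (w : W), (φ k w : Q) = k * w * (k : Q)⁻¹ := fun k w => by
    simp [φ]
  let R := φ.range
  have hfin : Finite (W ⋊[R.subtype] R) := Finite.of_equiv _ SemidirectProduct.equivProd.symm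
  let V : Subgroup (W ⋊[R.subtype] R) := (SemidirectProduct.inl : W →* W ⋊[R.subtype] R).range
  let G' : Subgroup (W ⋊[R.subtype] R) := (SemidirectProduct.inr : R →* W ⋊[R.subtype] R).range
  have hVn : V.Normal := by
    change ((SemidirectProduct.inl : W →* W ⋊[R.subtype] R).range).Normal
    rw [SemidirectProduct.range_inl_eq_ker_rightHom]
    infer_instance
  have hc : Subgroup.IsComplement' V G' := by
    apply Subgroup.isComplement'_of_disjoint_and_mul_eq_univ
    · rw [Subgroup.disjoint_def]
      rintro _ ⟨v, rfl⟩ ⟨h, hh⟩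
      have h1 := congrArg SemidirectProduct.left hh
      simp at h1
      rw [← h1, map_one]
    · rw [Set.eq_univ_iff_forall]
      intro x
      exact ⟨_, ⟨x.left, rfl⟩, _, ⟨x.right, rfl⟩, SemidirectProduct.inl_left_mul_inr_right x⟩
  have hcardR : Nat.card R ∣ Nat.card K := by
    have h1 := Subgroup.card_range_dvd φ
    exact h1
  have hidx : ¬ p ∣ V.index := by
    have h1 : V.index = Nat.card G' := hc.symm.index_eq_card
    have h2 : Nat.card G' = Nat.card R :=
      (Nat.card_congr (MonoidHom.ofInjective (SemidirectProduct.inr_injective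
        (φ := R.subtype))).toEquiv).symm
    rw [h1, h2]
    exact fun h => hK (h.trans hcardR)
  have hVp : ∀ v ∈ V, v ^ p = 1 := by
    rintro _ ⟨w, rfl⟩
    rw [← map_pow]
    have : w ^ p = 1 := Subtype.ext (hWp w w.2)
    rw [this, map_one]
  have hact : ∀ (r : R) (w : W), (SemidirectProduct.inr r : W ⋊[R.subtype] R) *
      SemidirectProduct.inl w * (SemidirectProduct.inr r)⁻¹ =
        SemidirectProduct.inl ((r : MulAut W) w) := fun r w => by
    have := SemidirectProduct.inl_aut (φ := R.subtype) r w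
    rw [← map_inv]
    exact this.symm
  have hcen : Subgroup.centralizer (V : Set (W ⋊[R.subtype] R)) = V := by
    apply le_antisymm
    · intro x hx
      rw [Subgroup.mem_centralizer_iff] at hx
      have h1 : x.right = 1 := by
        apply Subtype.ext
        ext w
        have h2 := hx (SemidirectProduct.inl w) ⟨w, rfl⟩
        have h3 := congrArg SemidirectProduct.left h2
        simp only [SemidirectProduct.mul_left, SemidirectProduct.left_inl,
          SemidirectProduct.right_inl, map_one, MulAut.one_apply] at h3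
        have h4 : (w : Q) * (x.left : Q) = (x.left : Q) * (((x.right : MulAut W) w : W) : Q) :=
          congrArg Subtype.val h3
        have h5 := hWc w w.2 x.left x.left.2
        rw [h5] at h4
        have h6 := mul_left_cancel h4
        change (((x.right : MulAut W) w : W) : Q) = (w : Q)
        exact h6.symm
      refine ⟨x.left, ?_⟩
      rw [← SemidirectProduct.inl_left_mul_inr_right x, h1]
      simp
    · rintro _ ⟨w, rfl⟩
      rw [Subgroup.mem_centralizer_iff]
      rintro _ ⟨v, rfl⟩
      rw [← map_mul, ← map_mul]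
      congr 1
      exact Subtype.ext (hWc v v.2 w w.2)
  obtain ⟨κ, D⟩ := hE p (W ⋊[R.subtype] R) V G' hVp hidx hcen hc
  let f : K →* G' := (SemidirectProduct.inr : R →* W ⋊[R.subtype] R).rangeRestrict.comp
    φ.rangeRestrict
  have hf : ∀ k : K, ((f k : G') : W ⋊[R.subtype] R) = SemidirectProduct.inr (φ.rangeRestrict k) :=
    fun k => rfl
  have hfr : ∀ (k : K) (w : W), ((φ.rangeRestrict k : R) : MulAut W) w = φ k w := fun k w => rfl
  have htriv : ∀ k : K, (k : Q) ∈ Subgroup.centralizer (W : Set Q) ↔ f k = 1 := by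
    intro k
    constructor
    · intro h
      have h1 : φ.rangeRestrict k = 1 := by
        apply Subtype.ext
        ext w
        change (φ k w : Q) = w
        rw [hφ, ← Subgroup.mem_centralizer_iff.1 h w w.2, mul_inv_cancel_right]
      apply Subtype.ext
      rw [hf, h1, map_one]
      rfl
    · intro h
      have h1 : (SemidirectProduct.inr (φ.rangeRestrict k) : W ⋊[R.subtype] R) = 1 := by
        rw [← hf, h]
        rfl
      have h2 : φ.rangeRestrict k = 1 := SemidirectProduct.inr_injective (by rw [h1, map_one])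
      rw [Subgroup.mem_centralizer_iff]
      intro w hw
      have h3 : φ k ⟨w, hw⟩ = ⟨w, hw⟩ := by
        rw [← hfr, h2]
        rfl
      have h4 := congrArg Subtype.val h3
      rw [hφ] at h4
      change (k : Q) * w * (k : Q)⁻¹ = w at h4
      rw [mul_inv_eq_iff_eq_mul] at h4
      exact h4.symm
  refine ⟨fun a k => κ a (f k), ?_, ?_, ?_, ?_⟩
  · exact H688.KGV.UI.comp f D.uint
  · intro a ha k
    have h1 := D.norm a ha (f k)
    have h2 : Nat.card V = Nat.card W :=
      (Nat.card_congr (MonoidHom.ofInjective (SemidirectProduct.inl_injective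
        (φ := R.subtype))).toEquiv).symm
    have h3 : Nat.card ↥(V ⊓ Subgroup.centralizer
        ({((f k : G') : W ⋊[R.subtype] R)} : Set (W ⋊[R.subtype] R))) =
        Nat.card ↥(W ⊓ Subgroup.centralizer ({(k : Q)} : Set Q)) := by
      symm
      have hcom : ∀ w : W, (w : Q) ∈ Subgroup.centralizer ({(k : Q)} : Set Q) ↔
          (SemidirectProduct.inl w : W ⋊[R.subtype] R) ∈ Subgroup.centralizer
            ({((f k : G') : W ⋊[R.subtype] R)} : Set (W ⋊[R.subtype] R)) := by
        intro w
        rw [Subgroup.mem_centralizer_singleton_iff, Subgroup.mem_centralizer_singleton_iff, hf]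
        have e1 := hact (φ.rangeRestrict k) w
        rw [hfr, mul_inv_eq_iff_eq_mul] at e1
        constructor
        · intro h
          have h5 : φ k w = w := Subtype.ext (by rw [hφ, ← h, mul_inv_cancel_right])
          rw [h5] at e1
          exact e1.symm
        · intro h
          rw [e1] at h
          have h5 := SemidirectProduct.inl_injective (mul_right_cancel h)
          have h6 := congrArg Subtype.val h5
          rw [hφ] at h6
          rw [eq_mul_inv_iff_mul_eq] at h6
          exact h6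
      refine Nat.card_congr ⟨fun w => ⟨SemidirectProduct.inl ⟨w.1, w.2.1⟩, ⟨⟨_, rfl⟩,
        (hcom ⟨w.1, w.2.1⟩).1 w.2.2⟩⟩, fun x => ⟨(x.1.left : W), ?_, ?_⟩, ?_, ?_⟩
      · exact x.1.left.2
      · obtain ⟨y, hy⟩ := x.2.1
        have : x.1.left = y := by rw [← hy]; rfl
        rw [this]
        refine (hcom y).2 ?_
        rw [hy]
        exact x.2.2
      · intro w
        rfl
      · intro x
        apply Subtype.ext
        obtain ⟨y, hy⟩ := x.2.1
        change SemidirectProduct.inl (x.1.left) = x.1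
        rw [← hy]
        rfl
    rw [h3, h2] at h1
    exact h1
  · intro a ha k hk
    change κ a (f k) = 1
    rw [(htriv k).1 hk, D.one a ha]
  · intro a ha k hk
    exact D.ideal a ha (f k) (fun h => hk ((htriv k).2 h))

/-- Fixed points in the quotient by a normal `p`-subgroup lift. -/
theorem exists_lift_fixed {p : ℕ} [hp : Fact p.Prime] {Q : Type u} [Group Q] [Finite Q]
    (A W : Subgroup Q) [A.Normal] [W.Normal] (hA : IsPGroup p A) {k : Q} (hk : ¬ p ∣ orderOf k)
    {x : Q} (hx : x ∈ A) (hxk : x⁻¹ * (k * x * k⁻¹) ∈ W) :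
    ∃ c ∈ A, k * c * k⁻¹ = c ∧ x⁻¹ * c ∈ W := by
  classical
  let actA : MulDistribMulAction (Subgroup.zpowers k) A :=
    { smul := fun a x => ⟨a * x * (a : Q)⁻¹, Subgroup.Normal.conj_mem inferInstance _ x.2 _⟩
      one_smul := fun x => Subtype.ext (by
        change ((1 : Subgroup.zpowers k) : Q) * x * ((1 : Subgroup.zpowers k) : Q)⁻¹ = x
        simp)
      mul_smul := fun a b x => Subtype.ext (by
        change ((a * b : Subgroup.zpowers k) : Q) * x * ((a * b : Subgroup.zpowers k) : Q)⁻¹ =
          a * (b * x * (b : Q)⁻¹) * (a : Q)⁻¹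
        push_cast
        group)
      smul_mul := fun a x y => Subtype.ext (by
        change (a : Q) * ((x * y : A) : Q) * (a : Q)⁻¹ = (a * x * (a : Q)⁻¹) * (a * y * (a : Q)⁻¹)
        push_cast
        group)
      smul_one := fun a => Subtype.ext (by
        change (a : Q) * ((1 : A) : Q) * (a : Q)⁻¹ = 1
        simp) }
  have hsm : ∀ (a : Subgroup.zpowers k) (y : A), ((a • y : A) : Q) = a * y * (a : Q)⁻¹ :=
    fun _ _ => rfl
  have hcop : (Nat.card (Subgroup.zpowers k)).Coprime (Nat.card A) := by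
    obtain ⟨n, hn⟩ := IsPGroup.iff_card.1 hA
    rw [hn, Nat.card_zpowers]
    exact ((hp.out.coprime_iff_not_dvd.2 hk).symm).pow_right n
  have hsolv : Group.IsSolvable (Subgroup.zpowers k) ∨ Group.IsSolvable A :=
    Or.inl inferInstance
  obtain ⟨c, hc1, hc2⟩ := H532.CopAct.exists_fixed_lift (A := Subgroup.zpowers k) (G := A) hcop
    hsolv (W.subgroupOf A)
    (by
      intro a x hx
      rw [Subgroup.mem_subgroupOf, hsm]
      exact Subgroup.Normal.conj_mem (H := W) inferInstance _ (Subgroup.mem_subgroupOf.1 hx) _)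
    ⟨x, hx⟩
    (by
      rintro ⟨a, n, rfl⟩
      rw [Subgroup.mem_subgroupOf, Subgroup.coe_mul, hsm, Subgroup.coe_inv]
      -- in the quotient `x` commutes with `k`
      have h1 : Commute (QuotientGroup.mk' W k) (QuotientGroup.mk' W x) := by
        have h2 : QuotientGroup.mk' W (x⁻¹ * (k * x * k⁻¹)) = 1 :=
          (QuotientGroup.eq_one_iff _).2 hxk
        rw [map_mul, map_mul, map_mul, map_inv, map_inv, inv_mul_eq_one, eq_mul_inv_iff_mul_eq] at h2
        exact h2.symm
      have h3 := h1.zpow_left n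
      rw [← QuotientGroup.ker_mk' W, MonoidHom.mem_ker]
      simp only [map_mul, map_inv, map_zpow]
      rw [h3.eq]
      group)
  refine ⟨c, c.2, ?_, ?_⟩
  · have := congrArg Subtype.val (hc1 ⟨k, Subgroup.mem_zpowers k⟩)
    exact this
  · exact hc2

theorem card_map_mul {Q R : Type*} [Group Q] [Group R] [Finite Q] (π : Q →* R) (S : Subgroup Q) :
    Nat.card (S.map π) * Nat.card ↥(S ⊓ π.ker) = Nat.card S := by
  have h1 := Subgroup.card_eq_card_quotient_mul_card_subgroup (π.comp S.subtype).ker
  have h2 : Nat.card (↥S ⧸ (π.comp S.subtype).ker) = Nat.card (S.map π) := by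
    rw [Nat.card_congr (QuotientGroup.quotientKerEquivRange (π.comp S.subtype)).toEquiv,
      MonoidHom.range_comp, Subgroup.range_subtype]
  have h3 : Nat.card (π.comp S.subtype).ker = Nat.card ↥(S ⊓ π.ker) := by
    refine Nat.card_congr ⟨fun x => ⟨x.1.1, x.1.2, x.2⟩, fun x => ⟨⟨x.1, x.2.1⟩, x.2.2⟩, ?_, ?_⟩
    · intro x; rfl
    · intro x; rfl
  rw [h1, h2, h3]

/-- The number of fixed points is multiplicative. -/
theorem card_fixed_mul {p : ℕ} [hp : Fact p.Prime] {Q : Type u} [Group Q] [Finite Q]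
    (A W : Subgroup Q) [A.Normal] [W.Normal] (hWA : W ≤ A) (hA : IsPGroup p A) {k : Q}
    (hk : ¬ p ∣ orderOf k) :
    Nat.card ↥(A.map (QuotientGroup.mk' W) ⊓ Subgroup.centralizer ({QuotientGroup.mk' W k} : Set (Q ⧸ W))) *
      Nat.card ↥(W ⊓ Subgroup.centralizer ({k} : Set Q)) =
        Nat.card ↥(A ⊓ Subgroup.centralizer ({k} : Set Q)) := by
  have h1 := card_map_mul (QuotientGroup.mk' W) (A ⊓ Subgroup.centralizer ({k} : Set Q))
  have h2 : (A ⊓ Subgroup.centralizer ({k} : Set Q)).map (QuotientGroup.mk' W) =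
      A.map (QuotientGroup.mk' W) ⊓ Subgroup.centralizer ({QuotientGroup.mk' W k} : Set (Q ⧸ W)) := by
    apply le_antisymm
    · rintro _ ⟨x, ⟨hx1, hx2⟩, rfl⟩
      refine ⟨⟨x, hx1, rfl⟩, ?_⟩
      have hx3 := Subgroup.mem_centralizer_singleton_iff.1 hx2
      apply Subgroup.mem_centralizer_singleton_iff.2
      rw [← map_mul, hx3, map_mul]
    · rintro _ ⟨⟨x, hx, rfl⟩, hx2⟩
      have hx3 := Subgroup.mem_centralizer_singleton_iff.1 hx2
      obtain ⟨c, hc1, hc2, hc3⟩ := exists_lift_fixed A W hA hk hx (by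
        rw [← QuotientGroup.ker_mk' W, MonoidHom.mem_ker]
        simp only [map_mul, map_inv]
        rw [← hx3]
        group)
      refine ⟨c, ⟨hc1, ?_⟩, ?_⟩
      · apply Subgroup.mem_centralizer_singleton_iff.2
        exact (mul_inv_eq_iff_eq_mul.1 hc2).symm
      · symm
        exact (QuotientGroup.eq).2 hc3
  have h3 : (A ⊓ Subgroup.centralizer ({k} : Set Q)) ⊓ (QuotientGroup.mk' W).ker =
      W ⊓ Subgroup.centralizer ({k} : Set Q) := by
    rw [QuotientGroup.ker_mk']
    ext x
    simp only [Subgroup.mem_inf]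
    exact ⟨fun h => ⟨h.2, h.1.2⟩, fun h => ⟨⟨hWA h.1, h.2⟩, h.1⟩⟩
  rw [h2, h3] at h1
  exact h1

/-- A nontrivial finite `p`-subgroup normal in `Q` contains a nontrivial elementary abelian
subgroup normal in `Q`. -/
theorem exists_elementary {p : ℕ} [hp : Fact p.Prime] {Q : Type u} [Group Q] [Finite Q]
    (A : Subgroup Q) [A.Normal] (hA : IsPGroup p A) (hA1 : A ≠ ⊥) :
    ∃ W : Subgroup Q, W.Normal ∧ W ≤ A ∧ W ≠ ⊥ ∧ (∀ w ∈ W, w ^ p = 1) ∧
      (∀ v ∈ W, ∀ w ∈ W, v * w = w * v) := by
  classical
  -- `W` is the set of elements of order dividing `p` of the centre of `A`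
  let W : Subgroup Q :=
    { carrier := {x | x ∈ A ∧ (∀ a ∈ A, a * x = x * a) ∧ x ^ p = 1}
      one_mem' := ⟨A.one_mem, fun a _ => by simp, by simp⟩
      mul_mem' := by
        rintro x y ⟨hx1, hx2, hx3⟩ ⟨hy1, hy2, hy3⟩
        refine ⟨A.mul_mem hx1 hy1, fun a ha => ?_, ?_⟩
        · rw [← mul_assoc, hx2 a ha, mul_assoc, hy2 a ha, mul_assoc]
        · have hc : Commute x y := (hy2 x hx1)
          rw [hc.mul_pow, hx3, hy3, mul_one]
      inv_mem' := by
        rintro x ⟨hx1, hx2, hx3⟩
        refine ⟨A.inv_mem hx1, fun a ha => ?_, by rw [inv_pow, hx3, inv_one]⟩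
        have h1 : Commute a x := hx2 a ha
        exact h1.inv_right }
  have hWn : W.Normal := by
    constructor
    rintro x ⟨hx1, hx2, hx3⟩ g
    refine ⟨Subgroup.Normal.conj_mem inferInstance _ hx1 _, fun a ha => ?_, ?_⟩
    · have h1 := hx2 (g⁻¹ * a * g) (by
        have := Subgroup.Normal.conj_mem (H := A) inferInstance a ha g⁻¹
        simpa using this)
      calc a * (g * x * g⁻¹) = g * ((g⁻¹ * a * g) * x) * g⁻¹ := by group
        _ = g * (x * (g⁻¹ * a * g)) * g⁻¹ := by rw [h1]
        _ = g * x * g⁻¹ * a := by group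
    · rw [conj_pow, hx3, mul_one, mul_inv_cancel]
  refine ⟨W, hWn, fun x hx => hx.1, ?_, fun x hx => hx.2.2, fun v hv w hw => hw.2.1 v hv.1⟩
  intro hbot
  have hnt : Nontrivial A := (Subgroup.nontrivial_iff_ne_bot A).2 hA1
  have hz := hA.center_nontrivial
  obtain ⟨z, hz1⟩ := exists_ne (1 : Subgroup.center A)
  have hpd : p ∣ Nat.card (Subgroup.center A) := by
    have h1 : IsPGroup p (Subgroup.center A) := hA.to_subgroup _
    obtain ⟨n, hn⟩ := IsPGroup.iff_card.1 h1
    have h2 : 1 < Nat.card (Subgroup.center A) := Finite.one_lt_card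
    rw [hn] at h2 ⊢
    rcases n with _ | n
    · simp at h2
    · exact dvd_pow_self p (Nat.succ_ne_zero n)
  obtain ⟨y, hy⟩ := exists_prime_orderOf_dvd_card' p hpd
  have hy1 : ((y : A) : Q) ∈ W := by
    refine ⟨(y : A).2, fun a ha => ?_, ?_⟩
    · have := Subgroup.mem_center_iff.1 y.2 ⟨a, ha⟩
      exact congrArg Subtype.val this
    · have h1 : y ^ p = 1 := by rw [← hy, pow_orderOf_eq_one]
      have h2 := congrArg (fun z : Subgroup.center A => ((z : A) : Q)) h1
      simpa using h2
  rw [hbot, Subgroup.mem_bot] at hy1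
  have hy2 : y = 1 := Subtype.ext (Subtype.ext hy1)
  rw [hy2, orderOf_one] at hy
  exact hp.out.one_lt.ne hy

/-- **Existence of `κ`** for a `p'`-subgroup acting on a normal `p`-subgroup. -/
theorem exists_kapOn (hE : ExistsK.{u}) (p : ℕ) [hp : Fact p.Prime] (n : ℕ) :
    ∀ {Q : Type u} [Group Q] [Finite Q] (A K : Subgroup Q) [A.Normal], Nat.card A ≤ n →
      IsPGroup p A → ¬ p ∣ Nat.card K → ∃ κ : ZMod p → K → ℂ, KapOn p A K κ := by
  classical
  induction n with
  | zero =>
    intro Q _ _ A K _ h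
    exact absurd h (Nat.not_le.2 Nat.card_pos)
  | succ n ih =>
    intro Q _ _ A K _ hcard hA hK
    by_cases hA1 : A = ⊥
    · refine ⟨fun _ _ => 1, H688.KGV.UI.one, ?_, fun _ _ _ _ => rfl, ?_⟩
      · intro a ha k
        subst hA1
        simp
      · intro a ha k hk
        exfalso
        apply hk
        subst hA1
        rw [Subgroup.mem_centralizer_iff]
        intro x hx
        rw [SetLike.mem_coe, Subgroup.mem_bot] at hx
        rw [hx, one_mul, mul_one]
    obtain ⟨W, hWn, hWA, hW1, hWp, hWc⟩ := exists_elementary A hA hA1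
    obtain ⟨κ₁, D₁⟩ := kapOn_elementary hE p W K hWp hWc hK
    have hAn : (A.map (QuotientGroup.mk' W)).Normal :=
      Subgroup.Normal.map inferInstance _ (QuotientGroup.mk'_surjective W)
    have hcA : Nat.card (A.map (QuotientGroup.mk' W)) * Nat.card W = Nat.card A := by
      have h1 := card_map_mul (QuotientGroup.mk' W) A
      rw [QuotientGroup.ker_mk', inf_eq_right.2 hWA] at h1
      exact h1
    have hW2 : 2 ≤ Nat.card W := by
      have : Nontrivial W := (Subgroup.nontrivial_iff_ne_bot W).2 hW1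
      exact Finite.one_lt_card
    have hlt : Nat.card (A.map (QuotientGroup.mk' W)) ≤ n := by
      have : 0 < Nat.card (A.map (QuotientGroup.mk' W)) := Nat.card_pos
      nlinarith
    have hK2 : ¬ p ∣ Nat.card (K.map (QuotientGroup.mk' W)) :=
      fun h => hK (h.trans (Subgroup.card_map_dvd _ _))
    obtain ⟨κ₂, D₂⟩ := ih (A.map (QuotientGroup.mk' W)) (K.map (QuotientGroup.mk' W)) hlt
      (hA.map _) hK2
    let f : K →* K.map (QuotientGroup.mk' W) := (QuotientGroup.mk' W).subgroupMap K
    have hko : ∀ k : K, ¬ p ∣ orderOf (k : Q) := fun k h => hK (h.trans (by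
      rw [Subgroup.orderOf_coe]
      exact orderOf_dvd_natCard k))
    have hcount : ∀ k : K, Nat.card ↥(A.map (QuotientGroup.mk' W) ⊓
        Subgroup.centralizer ({((f k : K.map (QuotientGroup.mk' W)) : Q ⧸ W)} : Set (Q ⧸ W))) *
      Nat.card ↥(W ⊓ Subgroup.centralizer ({(k : Q)} : Set Q)) =
        Nat.card ↥(A ⊓ Subgroup.centralizer ({(k : Q)} : Set Q)) := fun k =>
      card_fixed_mul A W hWA hA (hko k)
    refine ⟨fun a k => κ₁ a k * κ₂ a (f k), ?_, ?_, ?_, ?_⟩
    · exact H688.KGV.UI.mul D₁.uint (H688.KGV.UI.comp f D₂.uint)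
    · intro a ha k
      have h1 := D₁.norm a ha k
      have h2 := D₂.norm a ha (f k)
      rw [← hcount k, ← hcA]
      push_cast
      rw [← h1, ← h2, norm_mul]
      ring
    · intro a ha k hk
      have h1 : (k : Q) ∈ Subgroup.centralizer (W : Set Q) := by
        rw [Subgroup.mem_centralizer_iff] at hk ⊢
        exact fun x hx => hk x (hWA hx)
      have h2 : ((f k : K.map (QuotientGroup.mk' W)) : Q ⧸ W) ∈
          Subgroup.centralizer (A.map (QuotientGroup.mk' W) : Set (Q ⧸ W)) := by
        rw [Subgroup.mem_centralizer_iff] at hk ⊢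
        rintro _ ⟨x, hx, rfl⟩
        change QuotientGroup.mk' W x * QuotientGroup.mk' W k = QuotientGroup.mk' W k * QuotientGroup.mk' W x
        rw [← map_mul, hk x hx, map_mul]
      change κ₁ a k * κ₂ a (f k) = 1
      rw [D₁.one a ha k h1, D₂.one a ha (f k) h2, one_mul]
    · intro a ha k hk
      by_cases h1 : (k : Q) ∈ Subgroup.centralizer (W : Set Q)
      · by_cases h2 : ((f k : K.map (QuotientGroup.mk' W)) : Q ⧸ W) ∈
          Subgroup.centralizer (A.map (QuotientGroup.mk' W) : Set (Q ⧸ W))
        · exfalso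
          apply hk
          have hsurj := hcount k
          have e1 : W ⊓ Subgroup.centralizer ({(k : Q)} : Set Q) = W := by
            rw [inf_eq_left]
            intro x hx
            rw [Subgroup.mem_centralizer_singleton_iff]
            exact Subgroup.mem_centralizer_iff.1 h1 x hx
          have e2 : A.map (QuotientGroup.mk' W) ⊓ Subgroup.centralizer
              ({((f k : K.map (QuotientGroup.mk' W)) : Q ⧸ W)} : Set (Q ⧸ W)) =
              A.map (QuotientGroup.mk' W) := by
            rw [inf_eq_left]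
            intro x hx
            rw [Subgroup.mem_centralizer_singleton_iff]
            exact Subgroup.mem_centralizer_iff.1 h2 x hx
          rw [e1, e2, hcA] at hsurj
          have e3 : A ⊓ Subgroup.centralizer ({(k : Q)} : Set Q) = A :=
            Subgroup.eq_of_le_of_card_ge inf_le_left hsurj.le
          rw [inf_eq_left] at e3
          rw [Subgroup.mem_centralizer_iff]
          intro x hx
          exact Subgroup.mem_centralizer_singleton_iff.1 (e3 hx)
        · obtain ⟨y, hy, e⟩ := D₂.ideal a ha (f k) h2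
          exact ⟨y, hy, by rw [D₁.one a ha k h1, one_mul, e]⟩
      · obtain ⟨y, hy, e⟩ := D₁.ideal a ha k h1
        refine ⟨y * κ₂ a (f k), hy.mul (H688.KGV.UI.isIntegral D₂.uint ha _), ?_⟩
        rw [e, mul_assoc]

end Cfsg.Agent.H591.TI
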