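import Cfsg.Agent.H591.TI.Local
import Cfsg.Agent.Blocks.Basic
import Cfsg.Agent.Blocks.Local

/-!
# TI Sylow subgroups: the number of characters of height zero
-/

set_option autoImplicit false
set_option linter.unusedSectionVars false

open Cfsg Finset
open scoped ComplexConjugate Pointwise

namespace Cfsg.Agent.H591.TI

open Cfsg.Agent.H644.KGV Cfsg.Agent.OddOrderCharacters.VChar Cfsg.Agent.Characters.Core
open Cfsg.Agent.Blocks.Local

universe u

/-- The values of two characters in a block at an element with class size prime to `p`. -/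
theorem block_congr {G : Type u} [Group G] [Finite G] {p : ℕ} [Fact p.Prime] {M : Ideal AlgInt}
    (hM : IsPModular p M) {B : Set (IrrCharacter G)} (hB : IsPBlock M B) {χ ψ : IrrCharacter G}
    (hχ : χ ∈ B) (hψ : ψ ∈ B) {x : G} (hx : ¬ p ∣ (Subgroup.centralizer ({x} : Set G)).index) :
    MemLocalIdeal M ((χ : G → ℂ) x * (ψ : G → ℂ) 1 - (ψ : G → ℂ) x * (χ : G → ℂ) 1) := by
  have hprime := isPrime_of_isPModular hM
  have h1 := Blocks.Basic.isPBlock_sameBlock hB hχ hψ x
  rw [centralChar, centralChar] at h1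
  have hχ1 := isIrr_apply_one_ne_zero χ.2
  have hψ1 := isIrr_apply_one_ne_zero ψ.2
  have hint : ∀ (θ : IrrCharacter G) (y : G), MemLocalRing M ((θ : G → ℂ) y) := fun θ y => by
    obtain ⟨n, ρ, -, h⟩ := θ.2
    rw [← h]
    exact memLocalRing_of_isIntegral (Characters.AverageRoots.isIntegral_character ρ y)
  have h2 := memLocalIdeal_mul_right h1 (memLocalRing_mul (hint χ 1) (hint ψ 1))
  have h3 : (((Subgroup.centralizer ({x} : Set G)).index : ℂ) * (χ : G → ℂ) x / (χ : G → ℂ) 1 -
      ((Subgroup.centralizer ({x} : Set G)).index : ℂ) * (ψ : G → ℂ) x / (ψ : G → ℂ) 1) *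
      ((χ : G → ℂ) 1 * (ψ : G → ℂ) 1) = ((Subgroup.centralizer ({x} : Set G)).index : ℂ) *
        ((χ : G → ℂ) x * (ψ : G → ℂ) 1 - (ψ : G → ℂ) x * (χ : G → ℂ) 1) := by
    field_simp
  rw [h3] at h2
  rcases memLocalIdeal_or_of_mul (memLocalRing_natCast _) (memLocalRing_sub
    (memLocalRing_mul (hint _ _) (hint _ _)) (memLocalRing_mul (hint _ _) (hint _ _))) h2 with h | h
  · exact absurd ((memLocalIdeal_natCast_iff hM _).1 h) hx
  · exact h

/-- Choice of the character `φ`. -/
theorem exists_phi {H : Type u} [Group H] [Finite H] {p : ℕ} [Fact p.Prime] {M : Ideal AlgInt}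
    (hM : IsPModular p M) (hH : ¬ p ∣ Nat.card H) {L : Type u} [Group L] [Fintype L] (f : L →* H)
    (hf : Function.Injective f) (χ : L → ℂ) (hχ : ¬ MemLocalIdeal M (χ 1))
    (hint : ∀ l, MemLocalRing M (χ l)) :
    ∃ φ : IrrCharacter H, ¬ MemLocalIdeal M (∑ l : L, conj ((φ : H → ℂ) (f l)) * χ l) := by
  classical
  have hprime := isPrime_of_isPModular hM
  have := Fintype.ofFinite H
  have := finite_irr (G := H)
  have := Fintype.ofFinite (IrrCharacter H)
  by_contra hcon
  push_neg at hcon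
  have h1 : MemLocalIdeal M (∑ φ : IrrCharacter H, (φ : H → ℂ) 1 *
      ∑ l : L, conj ((φ : H → ℂ) (f l)) * χ l) := by
    refine memLocalIdeal_sum fun φ _ => memLocalIdeal_mul_left ?_ (hcon φ)
    obtain ⟨n, ρ, -, h⟩ := φ.2
    rw [← h]
    exact memLocalRing_of_isIntegral (Characters.AverageRoots.isIntegral_character ρ 1)
  have h2 : ∑ φ : IrrCharacter H, (φ : H → ℂ) 1 * ∑ l : L, conj ((φ : H → ℂ) (f l)) * χ l =
      (Nat.card H : ℂ) * χ 1 := by
    have h3 : ∀ φ : IrrCharacter H, (φ : H → ℂ) 1 * ∑ l : L, conj ((φ : H → ℂ) (f l)) * χ l =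
        ∑ l : L, ((φ : H → ℂ) 1 * conj ((φ : H → ℂ) (f l))) * χ l := fun φ => by
      rw [Finset.mul_sum]
      exact Finset.sum_congr rfl fun l _ => (mul_assoc _ _ _).symm
    rw [Finset.sum_congr rfl fun φ _ => h3 φ, Finset.sum_comm]
    have h4 : ∀ l : L, ∑ φ : IrrCharacter H, ((φ : H → ℂ) 1 * conj ((φ : H → ℂ) (f l))) * χ l =
        if l = 1 then (Nat.card H : ℂ) * χ 1 else 0 := by
      intro l
      rw [← Finset.sum_mul, S0145.sum_irr_mul_conj]
      by_cases hl : l = 1
      · subst hl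
        rw [map_one, if_pos (IsConj.refl 1), if_pos rfl, Subgroup.centralizer_eq_top_iff_subset.2
          (by simp), Subgroup.card_top]
      · rw [if_neg, if_neg hl, zero_mul]
        intro hc
        have h5 : f l = 1 := (isConj_one_right.1 hc)
        exact hl (hf (h5.trans (map_one f).symm))
    rw [Finset.sum_congr rfl fun l _ => h4 l, Finset.sum_ite_eq', if_pos (mem_univ _)]
  rw [h2] at h1
  rcases memLocalIdeal_or_of_mul (memLocalRing_natCast _) (hint 1) h1 with h | h
  · exact hH ((memLocalIdeal_natCast_iff hM _).1 h)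
  · exact hχ h

theorem complement_map {N : Type u} [Group N] {P K D : Subgroup N} [D.Normal] (hDP : D ≤ P)
    (hc : Subgroup.IsComplement' P K) :
    Subgroup.IsComplement' (P.map (QuotientGroup.mk' D)) (K.map (QuotientGroup.mk' D)) := by
  apply Subgroup.isComplement'_of_disjoint_and_mul_eq_univ
  · rw [Subgroup.disjoint_def]
    rintro _ ⟨x, hx, rfl⟩ ⟨k, hk, he⟩
    have h1 : k⁻¹ * x ∈ D := QuotientGroup.eq.1 he
    have h2 : k ∈ P := by
      have := P.mul_mem hx (P.inv_mem (hDP h1))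
      rwa [mul_inv_rev, inv_inv, mul_inv_cancel_left] at this
    have h3 : k = 1 := Subgroup.disjoint_def.1 hc.disjoint h2 hk
    rw [← he, h3, map_one]
  · rw [Set.eq_univ_iff_forall]
    intro q
    obtain ⟨n, rfl⟩ := QuotientGroup.mk'_surjective D q
    obtain ⟨⟨x, k⟩, hxk⟩ := hc.2 n
    exact ⟨_, ⟨x, x.2, rfl⟩, _, ⟨k, k.2, rfl⟩, by
      change QuotientGroup.mk' D x * QuotientGroup.mk' D k = QuotientGroup.mk' D n
      rw [← map_mul]
      exact congrArg _ hxk⟩

theorem centralizer_pow {Q : Type u} [Group Q] {p : ℕ} [hp : Fact p.Prime] {z : Q} (hz : z ^ p = 1)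
    {a : ZMod p} (ha : a ≠ 0) :
    Subgroup.centralizer ({z ^ a.val} : Set Q) = Subgroup.centralizer ({z} : Set Q) := by
  ext h
  rw [Subgroup.mem_centralizer_singleton_iff, Subgroup.mem_centralizer_singleton_iff]
  constructor
  · intro hc
    have h1 : Commute h (z ^ a.val) := hc
    have h2 := h1.pow_right (a⁻¹).val
    have h3 : (z ^ a.val) ^ (a⁻¹).val = z := by
      rw [← pow_mul, pow_eq_pow_mod _ hz, ← ZMod.val_mul, mul_inv_cancel₀ ha, ZMod.val_one, pow_one]
    rw [h3] at h2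
    exact h2
  · intro hc
    have h1 : Commute h z := hc
    exact h1.pow_right _

theorem pow_val_ne_one {Q : Type u} [Group Q] {p : ℕ} [hp : Fact p.Prime] {z : Q} (hz : z ^ p = 1)
    (hz1 : z ≠ 1) {a : ZMod p} (ha : a ≠ 0) : z ^ a.val ≠ 1 := by
  intro h
  apply hz1
  have h3 : (z ^ a.val) ^ (a⁻¹).val = z := by
    rw [← pow_mul, pow_eq_pow_mod _ hz, ← ZMod.val_mul, mul_inv_cancel₀ ha, ZMod.val_one, pow_one]
  rw [← h3, h, one_pow]

end Cfsg.Agent.H591.TI
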