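import Cfsg.Agent.Blocks.Deflate
import Cfsg.Agent.OddOrderCharacters.VChar
import Cfsg.Agent.Characters.Linear
import Cfsg.Agent.Characters.Ito
import Cfsg.Agent.H679.Lin
import Cfsg.Agent.CharactersDeep.FeitLinear
import Cfsg.Agent.Characters.DegreeBounds

/-!
# Characters of `p`-groups modulo `p`
-/

set_option autoImplicit false
set_option linter.unusedSectionVars false

open Cfsg Finset
open scoped ComplexConjugate

namespace Cfsg.Agent.H591.TI

open Cfsg.Agent.OddOrderCharacters.VChar Cfsg.Agent.Characters.Core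

universe u

/-- For an irreducible character `lam` of a `p`-group, `lam 1` is congruent modulo `p` to the
average over the derived subgroup. -/
theorem pgroup_irr {P : Type u} [Group P] [Fintype P] {p : ℕ} [hp : Fact p.Prime]
    (hP : IsPGroup p P) (D : Subgroup P) [Fintype D] (hD : D = commutator P) {lam : P → ℂ}
    (hl : IsIrrCharacter P lam) :
    ∃ n : ℤ, lam 1 - (Nat.card D : ℂ)⁻¹ * ∑ d : D, lam d = (p : ℂ) * n := by
  classical
  have hD0 : (Nat.card D : ℂ) ≠ 0 := by exact_mod_cast Nat.card_pos.ne'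
  obtain ⟨d, hd0, hd⟩ := isIrr_apply_one hl
  by_cases h1 : d = 1
  · refine ⟨0, ?_⟩
    have h2 : ∀ x : D, lam x = 1 := fun x => by
      apply H679.linear_apply_eq_one hl (by rw [hd, h1]; simp)
      rw [← hD]
      exact x.2
    rw [Finset.sum_congr rfl fun x _ => h2 x, Finset.sum_const, Finset.card_univ, nsmul_eq_mul,
      mul_one, ← Nat.card_eq_fintype_card, inv_mul_cancel₀ hD0, hd, h1]
    simp
  · -- the sum over the derived subgroup vanishes
    have h2 : ∑ x : D, lam x = 0 := by
      by_contra hne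
      subst hD
      obtain ⟨χ', hχ'⟩ := Blocks.Deflate.exists_deflation (commutator P) lam hl hne
      have h3 : ∀ k ∈ commutator P, lam k = lam 1 := by
        intro k hk
        rw [hχ', Function.comp_apply, Function.comp_apply, QuotientGroup.mk_one,
          (QuotientGroup.eq_one_iff k).2 hk]
      have h4 := CharactersDeep.FeitLinear.apply_one_eq_one (commutator P)
        (fun x y => Subgroup.commutator_mem_commutator (Subgroup.mem_top x) (Subgroup.mem_top y)) hl h3
      rw [hd] at h4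
      exact h1 (by exact_mod_cast h4)
    -- the degree is a power of `p`
    have h3 : d ∣ Nat.card P := by
      obtain ⟨n, ρ, hρ, e⟩ := hl
      have h4 := Characters.DegreeBounds.finrank_dvd_card ρ
      have h5 : (d : ℂ) = (n : ℂ) := by
        rw [← hd, ← e, Representation.char_one]
        simp
      have h6 : d = n := by exact_mod_cast h5
      rw [h6]
      simpa using h4
    obtain ⟨k, hk⟩ := IsPGroup.iff_card.1 hP
    rw [hk] at h3
    obtain ⟨j, -, hj⟩ := (Nat.dvd_prime_pow hp.out).1 h3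
    have hj0 : j ≠ 0 := by
      rintro rfl
      exact h1 (by simpa using hj)
    obtain ⟨i, rfl⟩ := Nat.exists_eq_succ_of_ne_zero hj0
    refine ⟨(p ^ i : ℕ), ?_⟩
    rw [h2, mul_zero, sub_zero, hd, hj, pow_succ]
    push_cast
    ring

/-- The same for generalized characters. -/
theorem pgroup_gen {P : Type u} [Group P] [Fintype P] {p : ℕ} [hp : Fact p.Prime]
    (hP : IsPGroup p P) (D : Subgroup P) [Fintype D] (hD : D = commutator P) {g : P → ℂ}
    (hg : IsGeneralizedCharacter P g) :
    ∃ n : ℤ, g 1 - (Nat.card D : ℂ)⁻¹ * ∑ d : D, g d = (p : ℂ) * n := by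
  classical
  have := finite_irr (G := P)
  have := Fintype.ofFinite (IrrCharacter P)
  obtain ⟨m, rfl⟩ := isGeneralizedCharacter_iff.1 hg
  choose n hn using fun ψ : IrrCharacter P => pgroup_irr hP D hD ψ.2
  refine ⟨∑ ψ, m ψ * n ψ, ?_⟩
  have h1 : ∀ x : P, (∑ ψ : IrrCharacter P, m ψ • (ψ : P → ℂ)) x =
      ∑ ψ : IrrCharacter P, (m ψ : ℂ) * (ψ : P → ℂ) x := fun x => by
    rw [Finset.sum_apply]
    refine Finset.sum_congr rfl fun ψ _ => ?_
    rw [Pi.smul_apply, zsmul_eq_mul]
  simp only [h1]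
  rw [Finset.sum_comm, Finset.mul_sum, ← Finset.sum_sub_distrib]
  push_cast
  rw [Finset.mul_sum]
  refine Finset.sum_congr rfl fun ψ _ => ?_
  rw [← Finset.mul_sum]
  calc (m ψ : ℂ) * (ψ : P → ℂ) 1 - (Nat.card D : ℂ)⁻¹ * ((m ψ : ℂ) * ∑ d : D, (ψ : P → ℂ) d)
      = (m ψ : ℂ) * ((ψ : P → ℂ) 1 - (Nat.card D : ℂ)⁻¹ * ∑ d : D, (ψ : P → ℂ) d) := by ring
    _ = (p : ℂ) * ((m ψ : ℂ) * n ψ) := by rw [hn ψ]; ring

end Cfsg.Agent.H591.TI
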