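import Cfsg.Agent.H591.TI.Row
import Cfsg.Agent.H591.TI.PGrp
import Cfsg.Agent.SolvableStructure.AbelianSocle

/-!
# Deflation modulo the derived subgroup of a normal `p`-subgroup
-/

set_option autoImplicit false
set_option linter.unusedSectionVars false

open Cfsg Finset
open scoped ComplexConjugate

namespace Cfsg.Agent.H591.TI

open Cfsg.Agent.H644.KGV Cfsg.Agent.OddOrderCharacters.VChar Cfsg.Agent.Characters.Core

universe u

section Deflation

variable {N : Type u} [Group N] [Fintype N] (D : Subgroup N) [D.Normal]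

open Classical in
/-- The deflation of a function. -/
noncomputable def defl (χ : N → ℂ) (q : N ⧸ D) : ℂ :=
  (Nat.card D : ℂ)⁻¹ * ∑ n ∈ univ.filter (fun n => QuotientGroup.mk' D n = q), χ n

theorem sum_defl [Fintype (N ⧸ D)] (χ : N → ℂ) (f : N ⧸ D → ℂ) :
    ∑ n : N, f (QuotientGroup.mk' D n) * χ n = (Nat.card D : ℂ) * ∑ q : N ⧸ D, f q * defl D χ q := by
  classical
  have hD0 : (Nat.card D : ℂ) ≠ 0 := by exact_mod_cast Nat.card_pos.ne'
  rw [← Finset.sum_fiberwise (s := univ) (g := QuotientGroup.mk' D), Finset.mul_sum]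
  refine Finset.sum_congr rfl fun q _ => ?_
  rw [defl, ← mul_assoc, mul_comm (Nat.card D : ℂ), mul_assoc, mul_inv_cancel_left₀ hD0,
    Finset.mul_sum]
  refine Finset.sum_congr (by congr) fun n hn => ?_
  rw [(Finset.mem_filter.1 hn).2]

theorem defl_gen [Fintype (N ⧸ D)] {χ : N → ℂ} (hχ : IsGeneralizedCharacter N χ) :
    IsGeneralizedCharacter (N ⧸ D) (defl D χ) := by
  classical
  have hD0 : (Nat.card D : ℂ) ≠ 0 := by exact_mod_cast Nat.card_pos.ne'
  apply gen_of_inner_int
  · intro q r
    obtain ⟨x, rfl⟩ := QuotientGroup.mk'_surjective D r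
    rw [defl, defl]
    congr 1
    refine Finset.sum_bij' (fun n _ => x⁻¹ * n * x) (fun n _ => x * n * x⁻¹) ?_ ?_ ?_ ?_ ?_
    · intro n hn
      rw [Finset.mem_filter] at hn ⊢
      refine ⟨mem_univ _, ?_⟩
      rw [map_mul, map_mul, map_inv, hn.2]
      group
    · intro n hn
      rw [Finset.mem_filter] at hn ⊢
      refine ⟨mem_univ _, ?_⟩
      rw [map_mul, map_mul, map_inv, hn.2]
    · intro n _
      group
    · intro n _
      group
    · intro n _
      have := gen_isClassFunction hχ n x⁻¹
      rw [inv_inv] at this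
      exact this.symm
  · intro ψ hψ
    have h1 : IsGeneralizedCharacter N (fun n => ψ (QuotientGroup.mk' D n)) :=
      gen_of_char (isCharacter_comp (QuotientGroup.mk' D) (isIrr_isCharacter hψ))
    obtain ⟨n, hn⟩ := gen_inner hχ h1
    refine ⟨n, ?_⟩
    rw [← hn, classInner, classInner]
    have h2 := sum_defl D χ (fun q => conj (ψ q))
    have h3 : Nat.card N = Nat.card (N ⧸ D) * Nat.card D :=
      Subgroup.card_eq_card_quotient_mul_card_subgroup D
    have h4 : ∑ n : N, χ n * conj (ψ (QuotientGroup.mk' D n)) =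
        (Nat.card D : ℂ) * ∑ q : N ⧸ D, defl D χ q * conj (ψ q) := by
      rw [Finset.sum_congr rfl fun q _ => mul_comm (defl D χ q) _, ← h2]
      exact Finset.sum_congr rfl fun n _ => mul_comm _ _
    rw [h4, h3]
    push_cast
    rw [mul_inv, mul_assoc, inv_mul_cancel_left₀ hD0]

theorem defl_mk (χ : N → ℂ) (x : N) [Fintype D] :
    defl D χ (QuotientGroup.mk' D x) = (Nat.card D : ℂ)⁻¹ * ∑ d : D, χ ((d : N) * x) := by
  classical
  rw [defl]
  congr 1
  symm
  refine Finset.sum_bij (fun d _ => (d : N) * x) ?_ ?_ ?_ ?_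
  · intro d _
    rw [Finset.mem_filter]
    refine ⟨mem_univ _, ?_⟩
    rw [map_mul, (show QuotientGroup.mk' D (d : N) = 1 from (QuotientGroup.eq_one_iff (d : N)).2 d.2),
      one_mul]
  · intro a _ b _ h
    exact Subtype.ext (mul_right_cancel h)
  · intro n hn
    rw [Finset.mem_filter] at hn
    refine ⟨⟨n * x⁻¹, ?_⟩, mem_univ _, by simp⟩
    rw [← QuotientGroup.ker_mk' D, MonoidHom.mem_ker, map_mul, map_inv, hn.2, mul_inv_cancel]
  · intro d _
    rfl

end Deflation

section PK

variable {N : Type u} [Group N] [Fintype N] {p : ℕ} [hp : Fact p.Prime] (P : Subgroup N)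
  [P.Normal] (hP : IsPGroup p P)

/-- The derived subgroup of `P`. -/
def der : Subgroup N := (commutator P).map P.subtype

instance der_normal : (der P).Normal := by
  unfold der
  infer_instance

theorem der_le : der P ≤ P := by
  rintro _ ⟨x, -, rfl⟩
  exact x.2

theorem card_der : Nat.card (der P) = Nat.card (commutator P) :=
  (Nat.card_congr ((commutator P).equivMapOfInjective P.subtype P.subtype_injective).toEquiv).symm

theorem card_quot : Nat.card (P.map (QuotientGroup.mk' (der P))) = (commutator P).index := by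
  have h1 := card_map_mul (QuotientGroup.mk' (der P)) P
  rw [QuotientGroup.ker_mk', inf_eq_right.2 (der_le P), card_der] at h1
  have h2 := Subgroup.card_mul_index (commutator P)
  rw [← h2, mul_comm] at h1
  exact Nat.eq_of_mul_eq_mul_left Nat.card_pos h1

theorem map_comm : ∀ x ∈ P.map (QuotientGroup.mk' (der P)), ∀ y ∈ P.map (QuotientGroup.mk' (der P)),
    x * y = y * x := by
  rintro _ ⟨x, hx, rfl⟩ _ ⟨y, hy, rfl⟩
  rw [← map_mul, ← map_mul]
  have h1 : x⁻¹ * y⁻¹ * x * y ∈ der P := by
    refine ⟨⟨x, hx⟩⁻¹ * ⟨y, hy⟩⁻¹ * ⟨x, hx⟩ * ⟨y, hy⟩, ?_, rfl⟩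
    have := Subgroup.commutator_mem_commutator (Subgroup.mem_top (⟨x, hx⟩⁻¹ : P))
      (Subgroup.mem_top (⟨y, hy⟩⁻¹ : P))
    rw [commutatorElement_def, inv_inv, inv_inv] at this
    exact this
  symm
  refine QuotientGroup.eq.2 ?_
  rw [mul_inv_rev, ← mul_assoc]
  exact h1

include hP in
/-- A `p'`-element centralizing `P / P'` centralizes `P`. -/
theorem centralize {k : N} (hk : ¬ p ∣ orderOf k)
    (h : QuotientGroup.mk' (der P) k ∈ Subgroup.centralizer
      (P.map (QuotientGroup.mk' (der P)) : Set (N ⧸ der P))) :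
    k ∈ Subgroup.centralizer (P : Set N) := by
  classical
  -- the fixed points in `P`
  let C : Subgroup P := (Subgroup.centralizer ({k} : Set N)).subgroupOf P
  have h1 : C ⊔ commutator P = ⊤ := by
    rw [eq_top_iff]
    rintro ⟨x, hx⟩ -
    have h2 := Subgroup.mem_centralizer_iff.1 h (QuotientGroup.mk' (der P) x) ⟨x, hx, rfl⟩
    obtain ⟨c, hc, hck, hxc⟩ := exists_lift_fixed P (der P) hP hk hx (by
      rw [← QuotientGroup.ker_mk' (der P), MonoidHom.mem_ker]
      simp only [map_mul, map_inv]
      rw [← h2]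
      group)
    obtain ⟨d, hd, hd'⟩ := hxc
    have e : (⟨x, hx⟩ : P) = ⟨c, hc⟩ * d⁻¹ := by
      apply Subtype.ext
      rw [Subgroup.coe_mul, Subgroup.coe_inv]
      change x = c * (P.subtype d)⁻¹
      rw [hd']
      group
    rw [e]
    refine Subgroup.mul_mem_sup ?_ (inv_mem hd)
    rw [Subgroup.mem_subgroupOf, Subgroup.mem_centralizer_singleton_iff]
    exact (mul_inv_eq_iff_eq_mul.1 hck).symm
  have hnil : Group.IsNilpotent P := hP.isNilpotent
  have h2 := SolvableStructure.AbelianSocle.eq_top_of_sup_commutator h1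
  rw [Subgroup.mem_centralizer_iff]
  intro x hx
  have h3 : (⟨x, hx⟩ : P) ∈ C := h2 ▸ Subgroup.mem_top _
  exact Subgroup.mem_centralizer_singleton_iff.1 h3

include hP in
/-- **The sum over the centralizing elements, modulo `p`.** -/
theorem sum_congr_mod (L : Subgroup N) [Fintype L] (hL : ∀ l ∈ L, ∀ x ∈ P, x * l = l * x)
    {χ : N → ℂ} (hχ : IsGeneralizedCharacter N χ) {φ : L → ℂ} (hφ : IsCharacter L φ) :
    ∃ n : ℤ, ∑ l : L, conj (φ l) * χ l -
      ∑ l : L, conj (φ l) * defl (der P) χ (QuotientGroup.mk' (der P) l) = (p : ℂ) * n := by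
  classical
  have := Fintype.ofFinite P
  have := Fintype.ofFinite (der P)
  have := Fintype.ofFinite (commutator P)
  have hL0 : (Nat.card L : ℂ) ≠ 0 := by exact_mod_cast Nat.card_pos.ne'
  -- the generalized character `g` of `P`
  have hg : IsGeneralizedCharacter P
      (fun y : P => (Nat.card L : ℂ)⁻¹ * ∑ l : L, conj (φ l) * χ ((y : N) * l)) := by
    apply gen_of_inner_int
    · intro y x
      dsimp only
      congr 1
      refine Finset.sum_congr rfl fun l _ => ?_
      congr 1
      have h1 : ((x * y * x⁻¹ : P) : N) * l = (x : N) * (y * l) * (x : N)⁻¹ := by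
        have h2 := hL l l.2 _ (P.inv_mem x.2)
        push_cast
        rw [mul_assoc, h2]
        group
      rw [h1, gen_isClassFunction hχ]
    · intro ψ hψ
      let f : P × L →* N :=
        { toFun := fun x => (x.1 : N) * x.2
          map_one' := by simp
          map_mul' := by
            rintro ⟨a, b⟩ ⟨c, d⟩
            change ((a * c : P) : N) * ((b * d : L) : N) = (a * b) * (c * d)
            push_cast
            rw [mul_assoc, mul_assoc, ← mul_assoc (c : N), ← mul_assoc (b : N), hL b b.2 c c.2] }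
      have h1 : IsGeneralizedCharacter (P × L) (fun x => χ (f x)) := gen_comp f hχ
      have h2 : IsGeneralizedCharacter (P × L) (fun x => ψ x.1 * φ x.2) := by
        apply gen_of_char
        have e1 : IsCharacter (P × L) (fun x => ψ x.1) :=
          isCharacter_comp (MonoidHom.fst P L) (isIrr_isCharacter hψ)
        have e2 : IsCharacter (P × L) (fun x => φ x.2) := isCharacter_comp (MonoidHom.snd P L) hφ
        exact isCharacter_mul e1 e2
      obtain ⟨n, hn⟩ := gen_inner h1 h2
      refine ⟨n, ?_⟩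
      rw [← hn, classInner, classInner, Nat.card_prod, Fintype.sum_prod_type]
      push_cast
      rw [mul_inv, mul_assoc]
      congr 1
      rw [Finset.mul_sum]
      refine Finset.sum_congr rfl fun y _ => ?_
      rw [mul_assoc, Finset.sum_mul]
      congr 1
      refine Finset.sum_congr rfl fun l _ => ?_
      rw [map_mul]
      change _ = χ ((y : N) * l) * _
      ring
  obtain ⟨n, hn⟩ := pgroup_gen hP (commutator P) rfl hg
  refine ⟨Nat.card L * n, ?_⟩
  have h1 : ∀ l : L, defl (der P) χ (QuotientGroup.mk' (der P) l) =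
      (Nat.card (commutator P) : ℂ)⁻¹ * ∑ d : commutator P, χ (((d : P) : N) * l) := by
    intro l
    rw [defl_mk, card_der]
    congr 1
    let e : commutator P ≃ der P :=
      ((commutator P).equivMapOfInjective P.subtype P.subtype_injective).toEquiv
    exact (Fintype.sum_equiv e (fun d : commutator P => χ (((d : P) : N) * l))
      (fun d : der P => χ ((d : N) * l)) fun d => rfl).symm
  have h2 : (Nat.card L : ℂ) * ((Nat.card (commutator P) : ℂ)⁻¹ * ∑ d : commutator P,
      ((Nat.card L : ℂ)⁻¹ * ∑ l : L, conj (φ l) * χ (((d : P) : N) * l))) =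
      ∑ l : L, conj (φ l) * defl (der P) χ (QuotientGroup.mk' (der P) l) := by
    have e1 : ∑ d : commutator P, ((Nat.card L : ℂ)⁻¹ * ∑ l : L, conj (φ l) *
        χ (((d : P) : N) * l)) = (Nat.card L : ℂ)⁻¹ * ∑ l : L, ∑ d : commutator P,
          conj (φ l) * χ (((d : P) : N) * l) := by
      rw [← Finset.mul_sum, Finset.sum_comm]
    rw [e1, mul_left_comm, mul_inv_cancel_left₀ hL0, Finset.mul_sum]
    refine Finset.sum_congr rfl fun l _ => ?_
    rw [h1, ← Finset.mul_sum]
    ring
  have h3 : (Nat.card L : ℂ) * ((Nat.card L : ℂ)⁻¹ * ∑ l : L, conj (φ l) *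
      χ (((1 : P) : N) * l)) = ∑ l : L, conj (φ l) * χ l := by
    rw [mul_inv_cancel_left₀ hL0]
    refine Finset.sum_congr rfl fun l _ => ?_
    rw [Subgroup.coe_one, one_mul]
  rw [← h2, ← h3, ← mul_sub, hn]
  push_cast
  ring

end PK

end Cfsg.Agent.H591.TI
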