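import Cfsg.Agent.S0145
import Cfsg.Agent.OddOrderCharacters.VChar

/-!
# A Parseval formula for sums over conjugates, and its behaviour in TI situations
-/

set_option autoImplicit false
set_option linter.unusedSectionVars false

open Cfsg Finset
open scoped ComplexConjugate

namespace Cfsg.Agent.H591.TI

universe u

/-- The sum of `w g * conj (w (t g t⁻¹))`. -/
noncomputable def TS {G : Type u} [Group G] [Fintype G] (w : G → ℂ) : ℂ :=
  ∑ t : G, ∑ g : G, w g * conj (w (t * g * t⁻¹))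

theorem card_conj_eq {G : Type u} [Group G] [Fintype G] (g h : G) [Decidable (IsConj g h)]
    [DecidableEq G] :
    (if IsConj g h then (Nat.card (Subgroup.centralizer ({h} : Set G)) : ℂ) else 0) =
      ∑ t : G, if t * g * t⁻¹ = h then (1 : ℂ) else 0 := by
  classical
  rw [Finset.sum_boole]
  split_ifs with hc
  · obtain ⟨c, rfl⟩ := isConj_iff.1 hc
    rw [← Fintype.card_subtype, ← Nat.card_eq_fintype_card]
    congr 1
    refine Nat.card_congr ⟨fun x => ⟨x.1 * c, ?_⟩, fun t => ⟨t.1 * c⁻¹, ?_⟩, ?_, ?_⟩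
    · have h1 := Subgroup.mem_centralizer_singleton_iff.1 x.2
      calc x.1 * c * g * (x.1 * c)⁻¹ = (x.1 * (c * g * c⁻¹)) * x.1⁻¹ := by group
        _ = c * g * c⁻¹ := by rw [h1]; group
    · rw [Subgroup.mem_centralizer_singleton_iff]
      have h1 := t.2
      calc t.1 * c⁻¹ * (c * g * c⁻¹) = (t.1 * g * t.1⁻¹) * (t.1 * c⁻¹) := by group
        _ = c * g * c⁻¹ * (t.1 * c⁻¹) := by rw [h1]
    · intro x
      simp
    · intro t
      simp
  · symm
    rw [Nat.cast_eq_zero, Finset.card_eq_zero, Finset.filter_eq_empty_iff]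
    intro t _ ht
    exact hc (isConj_iff.2 ⟨t, ht⟩)

/-- **Parseval.** -/
theorem sum_norm_sq {G : Type u} [Group G] [Fintype G] [Fintype (IrrCharacter G)] (w : G → ℂ) :
    ∑ χ : IrrCharacter G, ((‖∑ g : G, w g * (χ : G → ℂ) g‖ : ℂ)) ^ 2 = TS w := by
  classical
  have h1 : ∀ χ : IrrCharacter G, ((‖∑ g : G, w g * (χ : G → ℂ) g‖ : ℂ)) ^ 2 =
      ∑ g : G, ∑ h : G, w g * conj (w h) * ((χ : G → ℂ) g * conj ((χ : G → ℂ) h)) := by
    intro χ
    rw [← Complex.mul_conj', map_sum, Finset.sum_mul_sum]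
    refine Finset.sum_congr rfl fun g _ => Finset.sum_congr rfl fun h _ => ?_
    rw [map_mul]
    ring
  have h2 : ∀ g h : G, ∑ χ : IrrCharacter G,
      w g * conj (w h) * ((χ : G → ℂ) g * conj ((χ : G → ℂ) h)) =
      ∑ t : G, if t * g * t⁻¹ = h then w g * conj (w h) else 0 := by
    intro g h
    rw [← Finset.mul_sum, S0145.sum_irr_mul_conj, card_conj_eq, Finset.mul_sum]
    refine Finset.sum_congr rfl fun t _ => ?_
    split_ifs <;> simp
  have h3 : ∀ g : G, ∑ χ : IrrCharacter G, ∑ h : G,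
      w g * conj (w h) * ((χ : G → ℂ) g * conj ((χ : G → ℂ) h)) =
      ∑ t : G, w g * conj (w (t * g * t⁻¹)) := by
    intro g
    rw [Finset.sum_comm, Finset.sum_congr rfl fun h _ => h2 g h, Finset.sum_comm]
    refine Finset.sum_congr rfl fun t _ => ?_
    rw [Finset.sum_ite_eq, if_pos (mem_univ _)]
  calc ∑ χ : IrrCharacter G, ((‖∑ g : G, w g * (χ : G → ℂ) g‖ : ℂ)) ^ 2
      = ∑ χ : IrrCharacter G, ∑ g : G, ∑ h : G,
          w g * conj (w h) * ((χ : G → ℂ) g * conj ((χ : G → ℂ) h)) :=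
        Finset.sum_congr rfl fun χ _ => h1 χ
    _ = ∑ g : G, ∑ χ : IrrCharacter G, ∑ h : G,
          w g * conj (w h) * ((χ : G → ℂ) g * conj ((χ : G → ℂ) h)) := Finset.sum_comm
    _ = ∑ g : G, ∑ t : G, w g * conj (w (t * g * t⁻¹)) := Finset.sum_congr rfl fun g _ => h3 g
    _ = TS w := Finset.sum_comm

theorem sum_subgroup {G : Type u} [Group G] [Fintype G] (N : Subgroup G) [Fintype N] (f : G → ℂ)
    (hf : ∀ g, f g ≠ 0 → g ∈ N) : ∑ g : G, f g = ∑ n : N, f n := by
  classical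
  have h1 : ∑ g ∈ univ.filter (fun g => g ∈ N), f g = ∑ g : G, f g :=
    Finset.sum_filter_of_ne (fun g _ hg => hf g hg)
  rw [← h1]
  exact Finset.sum_subtype _ (fun x => by simp) f

/-- Transfer to a subgroup containing the support and controlling its fusion. -/
theorem TS_subgroup {G : Type u} [Group G] [Fintype G] (N : Subgroup G) [Fintype N] (w : G → ℂ)
    (hsupp : ∀ g, w g ≠ 0 → g ∈ N)
    (hfus : ∀ t g, w g ≠ 0 → w (t * g * t⁻¹) ≠ 0 → t ∈ N) :
    TS w = TS (fun n : N => w n) := by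
  classical
  rw [TS, TS, sum_subgroup N]
  · refine Finset.sum_congr rfl fun t _ => ?_
    rw [sum_subgroup N]
    · rfl
    · intro g hg
      exact hsupp g (left_ne_zero_of_mul hg)
  · intro t ht
    obtain ⟨g, -, hg⟩ := Finset.exists_ne_zero_of_sum_ne_zero ht
    refine hfus t g (left_ne_zero_of_mul hg) fun h => ?_
    apply right_ne_zero_of_mul hg
    rw [h, map_zero]

theorem sum_quotient {N : Type u} [Group N] [Fintype N] (D : Subgroup N) [D.Normal]
    [Fintype (N ⧸ D)] (f : N ⧸ D → ℂ) :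
    ∑ n : N, f (QuotientGroup.mk' D n) = (Nat.card D : ℂ) * ∑ q : N ⧸ D, f q := by
  classical
  rw [← Finset.sum_fiberwise (s := univ) (g := QuotientGroup.mk' D), Finset.mul_sum]
  refine Finset.sum_congr rfl fun q _ => ?_
  rw [Finset.sum_congr rfl (g := fun _ => f q) (fun n hn => by rw [(Finset.mem_filter.1 hn).2]),
    Finset.sum_const, nsmul_eq_mul]
  congr 1
  rw [← Fintype.card_subtype, ← Nat.card_eq_fintype_card]
  norm_cast
  obtain ⟨x, rfl⟩ := QuotientGroup.mk'_surjective D q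
  refine Nat.card_congr ⟨fun n => ⟨x⁻¹ * n.1, ?_⟩, fun d => ⟨x * d.1, ?_⟩, ?_, ?_⟩
  · exact QuotientGroup.eq.1 n.2.symm
  · change (QuotientGroup.mk' D) (x * d.1) = QuotientGroup.mk' D x
    rw [map_mul, (QuotientGroup.eq_one_iff (d.1)).2 d.2 |> (fun h => (h : QuotientGroup.mk' D d.1 = 1)),
      mul_one]
  · intro n
    exact Subtype.ext (mul_inv_cancel_left _ _)
  · intro d
    exact Subtype.ext (inv_mul_cancel_left _ _)

theorem TS_quotient {N : Type u} [Group N] [Fintype N] (D : Subgroup N) [D.Normal]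
    [Fintype (N ⧸ D)] (w : N ⧸ D → ℂ) :
    TS (fun n : N => w (QuotientGroup.mk' D n)) = (Nat.card D : ℂ) ^ 2 * TS w := by
  classical
  rw [TS, TS]
  have h1 : ∀ t : N, ∑ g : N, w (QuotientGroup.mk' D g) *
      conj (w (QuotientGroup.mk' D (t * g * t⁻¹))) = (Nat.card D : ℂ) *
        ∑ q : N ⧸ D, w q * conj (w (QuotientGroup.mk' D t * q * (QuotientGroup.mk' D t)⁻¹)) := by
    intro t
    rw [← sum_quotient D (fun q => w q *
      conj (w (QuotientGroup.mk' D t * q * (QuotientGroup.mk' D t)⁻¹)))]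
    refine Finset.sum_congr rfl fun g _ => ?_
    rw [map_mul, map_mul, map_inv]
  rw [Finset.sum_congr rfl fun t _ => h1 t, ← Finset.mul_sum,
    sum_quotient D (fun t => ∑ q : N ⧸ D, w q * conj (w (t * q * t⁻¹)))]
  ring

/-- The weight with support `z H`. -/
noncomputable def wt {Q : Type u} [Group Q] (z : Q) (H : Subgroup Q) (c : H → ℂ) (g : Q) : ℂ :=
  open Classical in if h : z⁻¹ * g ∈ H then c ⟨z⁻¹ * g, h⟩ else 0

theorem wt_mul {Q : Type u} [Group Q] (z : Q) (H : Subgroup Q) (c : H → ℂ) (h : H) :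
    wt z H c (z * h) = c h := by
  rw [wt, dif_pos (by rw [inv_mul_cancel_left]; exact h.2)]
  congr 1
  exact Subtype.ext (inv_mul_cancel_left _ _)

theorem wt_ne_zero {Q : Type u} [Group Q] {z : Q} {H : Subgroup Q} {c : H → ℂ} {g : Q}
    (hg : wt z H c g ≠ 0) : ∃ h : H, g = z * h := by
  rw [wt] at hg
  split_ifs at hg with h
  · exact ⟨⟨_, h⟩, by rw [mul_inv_cancel_left]⟩
  · exact absurd rfl hg

theorem sum_wt {Q : Type u} [Group Q] [Fintype Q] (z : Q) (H : Subgroup Q) [Fintype H] (c : H → ℂ)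
    (f : Q → ℂ) : ∑ g : Q, wt z H c g * f g = ∑ h : H, c h * f (z * h) := by
  classical
  have e : ∑ g : Q, wt z H c g * f g = ∑ g : Q, wt z H c (z * g) * f (z * g) :=
    (Fintype.sum_equiv (Equiv.mulLeft z) _ _ fun g => rfl).symm
  rw [e, sum_subgroup H]
  · exact Finset.sum_congr rfl fun h _ => by rw [wt_mul]
  · intro g hg
    obtain ⟨h, hh⟩ := wt_ne_zero (left_ne_zero_of_mul hg)
    rw [mul_left_cancel hh]
    exact h.2

/-- Uniqueness of the decomposition in `p`-part and `p'`-part. -/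
theorem part_unique {Q : Type u} [Group Q] [Finite Q] {p : ℕ} [hp : Fact p.Prime] {z z' h h' : Q}
    (hz : ∃ k, z ^ p ^ k = 1) (hz' : ∃ k, z' ^ p ^ k = 1) (hh : ¬ p ∣ orderOf h)
    (hh' : ¬ p ∣ orderOf h') (hc : Commute z h) (hc' : Commute z' h') (he : z * h = z' * h') :
    z = z' ∧ h = h' := by
  -- choose an exponent `e` with `e ≡ 1` modulo the order of `z`, `z'` and `0` modulo those of `h`, `h'`
  obtain ⟨k, hk⟩ := hz
  obtain ⟨k', hk'⟩ := hz'
  have hcop : Nat.Coprime (p ^ (k + k')) (orderOf h * orderOf h') := by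
    apply Nat.Coprime.pow_left
    exact Nat.Coprime.mul_right (hp.out.coprime_iff_not_dvd.2 hh) (hp.out.coprime_iff_not_dvd.2 hh')
  obtain ⟨e, he1, he2⟩ := Nat.chineseRemainder hcop 1 0
  have hze : ∀ y : Q, y ^ p ^ (k + k') = 1 → y ^ e = y := by
    intro y hy
    have h1 : e ≡ 1 [MOD orderOf y] := he1.of_dvd (orderOf_dvd_of_pow_eq_one hy)
    calc y ^ e = y ^ 1 := pow_eq_pow_iff_modEq.2 h1
      _ = y := pow_one y
  have hhe : ∀ y : Q, orderOf y ∣ orderOf h * orderOf h' → y ^ e = 1 := by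
    intro y hy
    have h1 : e ≡ 0 [MOD orderOf y] := he2.of_dvd hy
    calc y ^ e = y ^ 0 := pow_eq_pow_iff_modEq.2 h1
      _ = 1 := pow_zero y
  have h1 : (z * h) ^ e = z := by
    rw [hc.mul_pow, hze z (by rw [pow_add, pow_mul, hk, one_pow]), hhe h (dvd_mul_right _ _), mul_one]
  have h2 : (z' * h') ^ e = z' := by
    rw [hc'.mul_pow, hze z' (by rw [pow_add, mul_comm, pow_mul, hk', one_pow]),
      hhe h' (dvd_mul_left _ _), mul_one]
  have h3 : z = z' := by rw [← h1, he, h2]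
  refine ⟨h3, ?_⟩
  rw [h3] at he
  exact mul_left_cancel he

theorem aux_conj {Q : Type u} [Group Q] {k x h : Q} (e : x * h = h * x) :
    k * x * k⁻¹ * (k * h * k⁻¹) = k * h * k⁻¹ * (k * x * k⁻¹) := by
  calc k * x * k⁻¹ * (k * h * k⁻¹) = k * (x * h) * k⁻¹ := by group
    _ = k * (h * x) * k⁻¹ := by rw [e]
    _ = _ := by group

theorem aux_conj' {Q : Type u} [Group Q] {k y h : Q} (e : y * (k * h * k⁻¹) = k * h * k⁻¹ * y) :
    k⁻¹ * y * k * h = h * (k⁻¹ * y * k) := by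
  calc k⁻¹ * y * k * h = k⁻¹ * (y * (k * h * k⁻¹)) * k := by group
    _ = k⁻¹ * ((k * h * k⁻¹) * y) * k := by rw [e]
    _ = _ := by group

theorem aux_conj'' {Q : Type u} [Group Q] {k y h z : Q} (e3 : y * (k * h * k⁻¹) = k * h * k⁻¹ * y)
    (e4 : k * z = z * k) (e5 : y * z = z * y) :
    y * k * (z * h) * (y * k)⁻¹ = z * (k * h * k⁻¹) := by
  calc y * k * (z * h) * (y * k)⁻¹ = y * (k * z) * h * k⁻¹ * y⁻¹ := by group
    _ = y * (z * k) * h * k⁻¹ * y⁻¹ := by rw [e4]
    _ = (y * z) * (k * h * k⁻¹) * y⁻¹ := by group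
    _ = (z * y) * (k * h * k⁻¹) * y⁻¹ := by rw [e5]
    _ = z * (y * (k * h * k⁻¹)) * y⁻¹ := by group
    _ = z * ((k * h * k⁻¹) * y) * y⁻¹ := by rw [e3]
    _ = _ := by group

section Comp

variable {Q : Type u} [Group Q] [Fintype Q] {p : ℕ} [hp : Fact p.Prime] {A K : Subgroup Q}
  [A.Normal] (hA : IsPGroup p A) (hAc : ∀ x ∈ A, ∀ y ∈ A, x * y = y * x)
  (hK : ¬ p ∣ Nat.card K) (hc : Subgroup.IsComplement' A K)

include hA hAc hK hc in
/-- The element `t = y k` conjugates `z h` into `z H` if and only if `k ∈ H` and `y` commutes with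
`k h k⁻¹`. -/
theorem wt_conj {z : Q} (hz : z ∈ A) (c : ↥(K ⊓ Subgroup.centralizer ({z} : Set Q)) → ℂ) (y : A)
    (k : K) (h : ↥(K ⊓ Subgroup.centralizer ({z} : Set Q)))
    (hne : wt z (K ⊓ Subgroup.centralizer ({z} : Set Q)) c
      (((y : Q) * k) * (z * h) * ((y : Q) * k)⁻¹) ≠ 0) :
    (k : Q) ∈ K ⊓ Subgroup.centralizer ({z} : Set Q) ∧
      (y : Q) ∈ Subgroup.centralizer ({(k : Q) * h * (k : Q)⁻¹} : Set Q) := by
  obtain ⟨h', hh'⟩ := wt_ne_zero hne
  have hpz : ∀ x ∈ A, ∃ n, x ^ p ^ n = 1 := fun x hx => by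
    obtain ⟨n, hn⟩ := hA ⟨x, hx⟩
    exact ⟨n, congrArg Subtype.val hn⟩
  have hpk : ∀ x ∈ K, ¬ p ∣ orderOf x := fun x hx h => hK (h.trans (by
    have := orderOf_dvd_natCard (⟨x, hx⟩ : K)
    rwa [← Subgroup.orderOf_coe] at this))
  have hzh : Commute z h := (Subgroup.mem_centralizer_singleton_iff.1 h.2.2).symm
  have hzh' : Commute z h' := (Subgroup.mem_centralizer_singleton_iff.1 h'.2.2).symm
  obtain ⟨t, ht⟩ : ∃ t : Q, t = (y : Q) * k := ⟨_, rfl⟩
  rw [← ht] at hh'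
  have e1 : (t * z * t⁻¹) * (t * h * t⁻¹) = z * h' := by rw [← hh']; group
  obtain ⟨h1, h2⟩ := part_unique (p := p) (z := t * z * t⁻¹) (h := t * h * t⁻¹) (z' := z) (h' := h')
    (hpz _ (Subgroup.Normal.conj_mem inferInstance _ hz _)) (hpz _ hz)
    (by
      have e := orderOf_injective (MulAut.conj t).toMonoidHom (MulAut.conj t).injective (h : Q)
      have e' : (MulAut.conj t).toMonoidHom (h : Q) = t * h * t⁻¹ := rfl
      rw [← e', e]
      exact hpk _ h.2.1)
    (hpk _ h'.2.1) (by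
      change t * z * t⁻¹ * (t * h * t⁻¹) = t * h * t⁻¹ * (t * z * t⁻¹)
      calc t * z * t⁻¹ * (t * h * t⁻¹) = t * (z * h) * t⁻¹ := by group
        _ = t * (h * z) * t⁻¹ := by rw [hzh.eq]
        _ = _ := by group) hzh' e1
  have hkz : (k : Q) * z * (k : Q)⁻¹ ∈ A := Subgroup.Normal.conj_mem inferInstance _ hz _
  have h3 : (k : Q) * z * (k : Q)⁻¹ = z := by
    have h4 := hAc y y.2 _ hkz
    have h5 : (y : Q) * ((k : Q) * z * (k : Q)⁻¹) * (y : Q)⁻¹ = z := by
      calc (y : Q) * ((k : Q) * z * (k : Q)⁻¹) * (y : Q)⁻¹ = t * z * t⁻¹ := by rw [ht]; group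
        _ = z := h1
    rw [h4, mul_inv_cancel_right] at h5
    exact h5
  have hkC : (k : Q) ∈ K ⊓ Subgroup.centralizer ({z} : Set Q) := by
    refine ⟨k.2, Subgroup.mem_centralizer_singleton_iff.2 ?_⟩
    exact mul_inv_eq_iff_eq_mul.1 h3
  refine ⟨hkC, ?_⟩
  -- modulo `A`
  have h6 : (k : Q) * h * (k : Q)⁻¹ ∈ K := K.mul_mem (K.mul_mem k.2 h.2.1) (K.inv_mem k.2)
  have h7 : (y : Q) * ((k : Q) * h * (k : Q)⁻¹) * (y : Q)⁻¹ = h' := by
    calc (y : Q) * ((k : Q) * h * (k : Q)⁻¹) * (y : Q)⁻¹ = t * h * t⁻¹ := by rw [ht]; group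
      _ = h' := h2
  have h8 : (y : Q) * (((k : Q) * h * (k : Q)⁻¹) * (y : Q)⁻¹ * ((k : Q) * h * (k : Q)⁻¹)⁻¹) =
      h' * ((k : Q) * h * (k : Q)⁻¹)⁻¹ := by rw [← h7]; group
  have h9 : (h' : Q) * ((k : Q) * h * (k : Q)⁻¹)⁻¹ ∈ A ⊓ K := by
    refine ⟨?_, K.mul_mem h'.2.1 (K.inv_mem h6)⟩
    change _ ∈ A
    rw [← h8]
    exact A.mul_mem y.2 (Subgroup.Normal.conj_mem inferInstance _ (A.inv_mem y.2) _)
  rw [hc.disjoint.eq_bot, Subgroup.mem_bot, mul_inv_eq_one] at h9
  rw [h9] at h7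
  exact Subgroup.mem_centralizer_singleton_iff.2 (mul_inv_eq_iff_eq_mul.1 h7)

include hc in
theorem sum_complement [Fintype A] [Fintype K] (f : Q → ℂ) :
    ∑ t : Q, f t = ∑ y : A, ∑ k : K, f ((y : Q) * k) := by
  classical
  rw [← Fintype.sum_prod_type']
  exact (Fintype.sum_bijective (fun x : A × K => (x.1 : Q) * x.2) hc _ _ (fun _ => rfl)).symm

include hA hAc hK hc in
/-- **The local sum.** -/
theorem TS_wt {z : Q} (hz : z ∈ A) {H : Subgroup Q}
    (hH : H = K ⊓ Subgroup.centralizer ({z} : Set Q)) [Fintype H]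
    (c : H → ℂ) (hcl : IsClassFunction H c) :
    TS (wt z H c) = (Nat.card H : ℂ) *
        ∑ h : H, (Nat.card ↥(A ⊓ Subgroup.centralizer ({(h : Q)} : Set Q)) : ℂ) * (‖c h‖ : ℂ) ^ 2 := by
  classical
  have := Fintype.ofFinite A
  have := Fintype.ofFinite K
  have hHK : H ≤ K := hH ▸ inf_le_left
  have hHz : ∀ h ∈ H, h * z = z * h := fun h hh =>
    Subgroup.mem_centralizer_singleton_iff.1 (hH ▸ hh : h ∈ K ⊓ Subgroup.centralizer ({z} : Set Q)).2
  have key : ∀ (y : A) (k : K) (h : H),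
      wt z H c (((y : Q) * k) * (z * h) * ((y : Q) * k)⁻¹) ≠ 0 →
      (k : Q) ∈ H ∧ (y : Q) ∈ Subgroup.centralizer ({(k : Q) * h * (k : Q)⁻¹} : Set Q) := by
    clear hcl
    subst hH
    exact fun y k h hne => wt_conj hA hAc hK hc hz c y k h hne
  rw [TS]
  have h0 : ∀ t : Q, ∑ g : Q, wt z H c g * conj (wt z H c (t * g * t⁻¹)) =
      ∑ h : H, c h * conj (wt z H c (t * (z * h) * t⁻¹)) := fun t =>
    sum_wt z H c (fun g => conj (wt z H c (t * g * t⁻¹)))
  rw [Finset.sum_congr rfl fun t _ => h0 t, Finset.sum_comm]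
  -- for each `h`
  have h1 : ∀ h : H, ∑ t : Q, c h * conj (wt z H c (t * (z * h) * t⁻¹)) =
      ∑ k : H, (Nat.card ↥(A ⊓ Subgroup.centralizer ({(h : Q)} : Set Q)) : ℂ) * (‖c h‖ : ℂ) ^ 2 := by
    intro h
    rw [sum_complement hc, Finset.sum_comm]
    have h2 : ∀ k : K, ∑ y : A, c h * conj (wt z H c (((y : Q) * k) * (z * h) * ((y : Q) * k)⁻¹)) =
        if (k : Q) ∈ H then
          (Nat.card ↥(A ⊓ Subgroup.centralizer ({(h : Q)} : Set Q)) : ℂ) * (‖c h‖ : ℂ) ^ 2 else 0 := by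
      intro k
      split_ifs with hk
      · -- `y` must commute with `k h k⁻¹`
        have hkh : (k : Q) * h * (k : Q)⁻¹ ∈ H := H.mul_mem (H.mul_mem hk h.2) (H.inv_mem hk)
        have h3 : ∀ y : A, c h * conj (wt z H c (((y : Q) * k) * (z * h) * ((y : Q) * k)⁻¹)) =
            if (y : Q) ∈ Subgroup.centralizer ({(k : Q) * h * (k : Q)⁻¹} : Set Q) then
              (‖c h‖ : ℂ) ^ 2 else 0 := by
          intro y
          split_ifs with hy
          · have e2 : ((y : Q) * k) * (z * h) * ((y : Q) * k)⁻¹ = z * ((k : Q) * h * (k : Q)⁻¹) := by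
              exact aux_conj'' (Subgroup.mem_centralizer_singleton_iff.1 hy) (hHz k hk)
                (hAc y y.2 z hz)
            rw [e2]
            have e6 := wt_mul z H c ⟨_, hkh⟩
            rw [e6]
            have e7 : c ⟨(k : Q) * h * (k : Q)⁻¹, hkh⟩ = c h := hcl h ⟨k, hk⟩
            rw [e7, Complex.mul_conj']
          · have e2 : wt z H c (((y : Q) * k) * (z * h) * ((y : Q) * k)⁻¹) = 0 := by
              by_contra hne
              exact hy (key y k h hne).2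
            rw [e2, map_zero, mul_zero]
        rw [Finset.sum_congr rfl fun y _ => h3 y, ← Finset.sum_filter, Finset.sum_const,
          nsmul_eq_mul]
        congr 1
        rw [← Fintype.card_subtype, ← Nat.card_eq_fintype_card]
        norm_cast
        -- conjugation by `k`
        refine Nat.card_congr ⟨fun y => ⟨(k : Q)⁻¹ * y.1 * k, ?_, ?_⟩,
          fun x => ⟨⟨(k : Q) * x.1 * (k : Q)⁻¹, ?_⟩, ?_⟩, ?_, ?_⟩
        · have := Subgroup.Normal.conj_mem (H := A) inferInstance _ y.1.2 (k : Q)⁻¹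
          rwa [inv_inv] at this
        · apply Subgroup.mem_centralizer_singleton_iff.2
          exact aux_conj' (Subgroup.mem_centralizer_singleton_iff.1 y.2)
        · exact Subgroup.Normal.conj_mem inferInstance _ x.2.1 _
        · apply Subgroup.mem_centralizer_singleton_iff.2
          exact aux_conj (Subgroup.mem_centralizer_singleton_iff.1 x.2.2)
        · intro y
          apply Subtype.ext
          apply Subtype.ext
          change (k : Q) * ((k : Q)⁻¹ * y.1 * k) * (k : Q)⁻¹ = y.1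
          group
        · intro x
          apply Subtype.ext
          change (k : Q)⁻¹ * ((k : Q) * x.1 * (k : Q)⁻¹) * k = x.1
          group
      · refine Finset.sum_eq_zero fun y _ => ?_
        have e2 : wt z H c (((y : Q) * k) * (z * h) * ((y : Q) * k)⁻¹) = 0 := by
          by_contra hne
          exact hk (key y k h hne).1
        rw [e2, map_zero, mul_zero]
    rw [Finset.sum_congr rfl fun k _ => h2 k, ← Finset.sum_filter, Finset.sum_const,
      Finset.sum_const, nsmul_eq_mul, nsmul_eq_mul]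
    congr 2
    rw [← Fintype.card_subtype, Finset.card_univ]
    exact Fintype.card_congr ⟨fun x => ⟨x.1, x.2⟩, fun x => ⟨⟨x.1, hHK x.2⟩, x.2⟩,
      fun _ => rfl, fun _ => rfl⟩
  rw [Finset.sum_congr rfl fun h _ => h1 h, Finset.mul_sum]
  refine Finset.sum_congr rfl fun h _ => ?_
  rw [Finset.sum_const, Finset.card_univ, nsmul_eq_mul, ← Nat.card_eq_fintype_card (α := H)]

end Comp

end Cfsg.Agent.H591.TI
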