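import Cfsg.Agent.H591.TI.KapP
import Cfsg.Agent.H591.TI.Sum
import Cfsg.Agent.H991.KGV.CountB
import Cfsg.Agent.Characters.Linear

/-!
# The rows: integrality and congruence
-/

set_option autoImplicit false
set_option linter.unusedSectionVars false

open Cfsg Finset
open scoped ComplexConjugate

namespace Cfsg.Agent.H591.TI

open Cfsg.Agent.H644.KGV Cfsg.Agent.OddOrderCharacters.VChar Cfsg.Agent.Characters.Core

universe u

section Central

variable {Q : Type u} [Group Q] {p : ℕ} [hp : Fact p.Prime] (z : Q) (hz : z ^ p = 1)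
  (H : Subgroup Q) (hH : ∀ h ∈ H, h * z = z * h)

include hz in
theorem zpow_add_val (a b : ZMod p) : z ^ (a + b).val = z ^ a.val * z ^ b.val := by
  rw [ZMod.val_add, ← pow_add, ← pow_eq_pow_mod _ hz]

/-- The homomorphism `(a, h) ↦ z ^ a h`. -/
noncomputable def zHom : Multiplicative (ZMod p) × H →* Q where
  toFun x := z ^ (x.1.toAdd).val * x.2
  map_one' := by simp
  map_mul' := by
    rintro ⟨a, h⟩ ⟨b, k⟩
    have h1 : z ^ ((a * b).toAdd).val = z ^ (a.toAdd).val * z ^ (b.toAdd).val := by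
      rw [toAdd_mul]
      exact zpow_add_val z hz _ _
    have h2 : Commute (h : Q) (z ^ (b.toAdd).val) := (show Commute (h : Q) z from hH h h.2).pow_right _
    change z ^ ((a * b).toAdd).val * ((h * k : H) : Q) = z ^ (a.toAdd).val * h * (z ^ (b.toAdd).val * k)
    rw [h1, Subgroup.coe_mul, mul_assoc, mul_assoc, ← mul_assoc (h : Q), h2.eq, mul_assoc]

/-- The linear characters of `ZMod p`. -/
noncomputable def lam (p : ℕ) [Fact p.Prime] (j : ZMod p) : Multiplicative (ZMod p) →* ℂˣ :=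
  (((ZMod.stdAddChar : AddChar (ZMod p) ℂ).mulShift j).toMonoidHom).toHomUnits

theorem lam_apply (j a : ZMod p) : ((lam p j (Multiplicative.ofAdd a) : ℂˣ) : ℂ) =
    (ZMod.stdAddChar (j * a) : ℂ) := rfl

include hz hH in
/-- The values at `z ^ a h` form a uniformly integral family. -/
theorem exists_central [Finite Q] {Θ : Q → ℂ} (hΘ : IsGeneralizedCharacter Q Θ) :
    ∃ θ : ZMod p → H → ℂ, (∀ k, IsGeneralizedCharacter H (θ k)) ∧
      ∀ (a : ZMod p) (h : H), Θ (z ^ a.val * h) =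
        ∑ k : ZMod p, (ZMod.stdAddChar (a * k) : ℂ) * θ k h := by
  classical
  have := Fintype.ofFinite H
  have hp0 : (p : ℂ) ≠ 0 := by exact_mod_cast hp.out.ne_zero
  have hH0 : (Nat.card H : ℂ) ≠ 0 := by exact_mod_cast Nat.card_pos.ne'
  have hconj : ∀ x : ZMod p, conj (ZMod.stdAddChar x : ℂ) = (ZMod.stdAddChar (-x) : ℂ) := fun x => by
    rw [AddChar.map_neg_eq_conj]
  refine ⟨fun j h => (p : ℂ)⁻¹ * ∑ a : ZMod p, (ZMod.stdAddChar (-(j * a)) : ℂ) *
    Θ (z ^ a.val * h), fun j => ?_, fun a h => ?_⟩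
  · apply gen_of_inner_int
    · intro h k
      dsimp only
      congr 1
      refine Finset.sum_congr rfl fun a _ => ?_
      congr 1
      have h1 : Commute (k : Q) (z ^ a.val) := (show Commute (k : Q) z from hH k k.2).pow_right _
      have h2 : z ^ a.val * ((k * h * k⁻¹ : H) : Q) = (k : Q) * (z ^ a.val * h) * (k : Q)⁻¹ := by
        push_cast
        rw [← mul_assoc, ← mul_assoc, ← h1.eq]
        group
      rw [h2, gen_isClassFunction hΘ]
    · intro ψ hψ
      -- the inner product on the direct product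
      have h1 : IsGeneralizedCharacter (Multiplicative (ZMod p) × H)
          (fun x => Θ (zHom z hz H hH x)) := gen_comp (zHom z hz H hH) hΘ
      have h2 : IsGeneralizedCharacter (Multiplicative (ZMod p) × H)
          (fun x => ((lam p j x.1 : ℂˣ) : ℂ) * ψ x.2) := by
        apply gen_of_char
        have e1 : IsCharacter (Multiplicative (ZMod p) × H) (fun x => ((lam p j x.1 : ℂˣ) : ℂ)) :=
          Characters.Linear.isCharacter_hom ((lam p j).comp (MonoidHom.fst (Multiplicative (ZMod p)) H))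
        have e2 : IsCharacter (Multiplicative (ZMod p) × H) (fun x => ψ x.2) :=
          isCharacter_comp (MonoidHom.snd (Multiplicative (ZMod p)) H) (isIrr_isCharacter hψ)
        exact isCharacter_mul e1 e2
      obtain ⟨n, hn⟩ := gen_inner h1 h2
      refine ⟨n, ?_⟩
      rw [← hn, classInner, classInner, Nat.card_prod, Nat.card_eq_fintype_card (α := Multiplicative (ZMod p)),
        Fintype.card_multiplicative, ZMod.card, Fintype.sum_prod_type]
      have h3 : ∀ h : H, ((p : ℂ)⁻¹ * ∑ a : ZMod p, (ZMod.stdAddChar (-(j * a)) : ℂ) *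
          Θ (z ^ a.val * h)) * conj (ψ h) = (p : ℂ)⁻¹ * ∑ a : ZMod p,
            (ZMod.stdAddChar (-(j * a)) : ℂ) * Θ (z ^ a.val * h) * conj (ψ h) := fun h => by
        rw [mul_assoc, Finset.sum_mul]
      rw [Finset.sum_congr rfl fun h _ => h3 h, ← Finset.mul_sum, Finset.sum_comm]
      push_cast
      rw [mul_inv, mul_comm (p : ℂ)⁻¹, mul_assoc]
      have h4 : ∑ a : ZMod p, ∑ h : H, (ZMod.stdAddChar (-(j * a)) : ℂ) * Θ (z ^ a.val * h) *
          conj (ψ h) = ∑ a : Multiplicative (ZMod p), ∑ h : H, Θ (zHom z hz H hH (a, h)) *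
            conj (((lam p j a : ℂˣ) : ℂ) * ψ h) := by
        refine Fintype.sum_equiv Multiplicative.ofAdd _ _ fun a => ?_
        refine Finset.sum_congr rfl fun h _ => ?_
        rw [map_mul, lam_apply, hconj]
        change _ = Θ (z ^ a.val * h) * _
        ring
      rw [h4]
      ring
  · dsimp only
    have h1 : ∀ k : ZMod p, (ZMod.stdAddChar (a * k) : ℂ) * ((p : ℂ)⁻¹ * ∑ b : ZMod p,
        (ZMod.stdAddChar (-(k * b)) : ℂ) * Θ (z ^ b.val * h)) =
        ∑ b : ZMod p, ((p : ℂ)⁻¹ * Θ (z ^ b.val * h)) * (ZMod.stdAddChar ((a - b) * k) : ℂ) := by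
      intro k
      rw [Finset.mul_sum, Finset.mul_sum]
      refine Finset.sum_congr rfl fun b _ => ?_
      have h2 : (a - b) * k = a * k + -(k * b) := by ring
      rw [h2, AddChar.map_add_eq_mul]
      ring
    rw [Finset.sum_congr rfl fun k _ => h1 k, Finset.sum_comm]
    have h2 : ∀ b : ZMod p, ∑ k : ZMod p, ((p : ℂ)⁻¹ * Θ (z ^ b.val * h)) *
        (ZMod.stdAddChar ((a - b) * k) : ℂ) = if b = a then Θ (z ^ a.val * h) else 0 := by
      intro b
      rw [← Finset.mul_sum]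
      split_ifs with hb
      · subst hb
        simp only [sub_self, zero_mul, AddChar.map_zero_eq_one, Finset.sum_const, Finset.card_univ,
          ZMod.card, nsmul_eq_mul, mul_one]
        field_simp
      · rw [H688.KGV.UI.sum_std (a - b) (sub_ne_zero.2 (Ne.symm hb)), mul_zero]
    rw [Finset.sum_congr rfl fun b _ => h2 b, Finset.sum_ite_eq', if_pos (mem_univ _)]

end Central

section Rows

variable {Q : Type u} [Group Q] [Finite Q] {p : ℕ} [hp : Fact p.Prime] {A K : Subgroup Q}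
  {κ : ZMod p → K → ℂ}

/-- **The row of a generalized character.** -/
theorem exists_row (D : KapOn p A K κ) {z : Q} (hz : z ^ p = 1) {H : Subgroup Q} [Fintype H]
    (hHK : H ≤ K) (hH : ∀ h ∈ H, h * z = z * h) {Θ : Q → ℂ} (hΘ : IsGeneralizedCharacter Q Θ)
    {φ : H → ℂ} (hφ : IsCharacter H φ) :
    ∃ m : ZMod p → ℤ,
      (∀ a, a ≠ 0 → (Nat.card H : ℂ)⁻¹ * ∑ h : H, κ a ⟨h, hHK h.2⟩ * conj (φ h) *
        Θ (z ^ a.val * h) = ∑ k : ZMod p, (ZMod.stdAddChar (a * k) : ℂ) * (m k : ℂ)) ∧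
      ∀ M : Ideal AlgInt, IsPModular p M → H991.KGV.InM M ((Nat.card H : ℂ) * (∑ k, m k : ℤ) -
        ∑ h : H, open Classical in if (h : Q) ∈ Subgroup.centralizer (A : Set Q) then
          conj (φ h) * Θ h else 0) := by
  classical
  have hH0 : (Nat.card H : ℂ) ≠ 0 := by exact_mod_cast Nat.card_pos.ne'
  obtain ⟨θ, hθ, hΘθ⟩ := exists_central z hz H hH hΘ
  have hU : UInt p H (fun a h => κ a ⟨h, hHK h.2⟩ * Θ (z ^ a.val * h)) :=
    H688.KGV.UI.mul (H688.KGV.UI.comp (Subgroup.inclusion hHK) D.uint)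
      ⟨θ, hθ, fun a _ h => hΘθ a h⟩
  have hφg : IsGeneralizedCharacter H (fun h => conj (φ h)) := gen_conjFun (gen_of_char hφ)
  obtain ⟨m, hm⟩ := H688.KGV.UI.exists_int hU hφg
  have hm' : ∀ a, a ≠ 0 → (Nat.card H : ℂ)⁻¹ * ∑ h : H, κ a ⟨h, hHK h.2⟩ * conj (φ h) *
        Θ (z ^ a.val * h) = ∑ k : ZMod p, (ZMod.stdAddChar (a * k) : ℂ) * (m k : ℂ) := by
    intro a ha
    rw [← hm a ha]
    congr 1
    refine Finset.sum_congr rfl fun h _ => ?_
    ring
  refine ⟨m, hm', fun M hM => ?_⟩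
  have h10 : (1 : ZMod p) ≠ 0 := one_ne_zero
  have hstd : ∀ x : ZMod p, (ZMod.stdAddChar x : ℂ) ^ p = 1 := by
    intro x
    rw [← AddChar.map_nsmul_eq_pow, nsmul_eq_mul, ZMod.natCast_self, zero_mul, AddChar.map_zero_eq_one]
  have hgint : ∀ {X : Type u} [Group X] [Finite X] {f : X → ℂ}, IsGeneralizedCharacter X f →
      ∀ x, IsIntegral ℤ (f x) := by
    intro X _ _ f hf x
    obtain ⟨χ, ψ, ⟨n, ρ, rfl⟩, ⟨n', ρ', rfl⟩, rfl⟩ := hf
    exact (Characters.AverageRoots.isIntegral_character ρ x).sub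
      (Characters.AverageRoots.isIntegral_character ρ' x)
  have hint : ∀ n : ℤ, IsIntegral ℤ (n : ℂ) := fun n => by
    simpa using (isIntegral_algebraMap (R := ℤ) (x := n) (A := ℂ))
  -- `Θ (z h) - Θ h`
  have hcong : ∀ h : H, H991.KGV.InM M (Θ (z ^ (1 : ZMod p).val * h) - Θ h) := by
    intro h
    have h0 := hΘθ 0 h
    rw [ZMod.val_zero, pow_zero, one_mul] at h0
    rw [hΘθ 1 h, h0, ← Finset.sum_sub_distrib]
    refine H991.KGV.InM.sum _ fun k _ => ?_
    have e : (ZMod.stdAddChar (1 * k) : ℂ) * θ k h - (ZMod.stdAddChar (0 * k) : ℂ) * θ k h =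
        -((1 - (ZMod.stdAddChar (1 * k) : ℂ)) * θ k h) := by
      rw [zero_mul, AddChar.map_zero_eq_one]
      ring
    rw [e]
    exact ((H991.KGV.one_sub_mem hM (hstd _)).mul (hgint (hθ k) h)).neg
  -- the sum over `H`
  have hsum : H991.KGV.InM M (∑ h : H, κ 1 ⟨h, hHK h.2⟩ * conj (φ h) *
      Θ (z ^ (1 : ZMod p).val * h) -
      ∑ h : H, if (h : Q) ∈ Subgroup.centralizer (A : Set Q) then conj (φ h) * Θ h else 0) := by
    rw [← Finset.sum_sub_distrib]
    refine H991.KGV.InM.sum _ fun h _ => ?_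
    split_ifs with hh
    · rw [D.one 1 h10 ⟨h, hHK h.2⟩ hh, one_mul, ← mul_sub, mul_comm]
      exact (hcong h).mul (hgint hφg h)
    · rw [sub_zero]
      obtain ⟨y, hy, e⟩ := D.ideal 1 h10 ⟨h, hHK h.2⟩ hh
      rw [e, mul_assoc, mul_assoc]
      exact (H991.KGV.one_sub_mem hM (hstd _)).mul (hy.mul ((hgint hφg h).mul (hgint hΘ _)))
  have hm1 := hm' 1 h10
  have e1 : ∑ h : H, κ 1 ⟨h, hHK h.2⟩ * conj (φ h) * Θ (z ^ (1 : ZMod p).val * h) =
      (Nat.card H : ℂ) * ∑ k : ZMod p, (ZMod.stdAddChar (1 * k) : ℂ) * (m k : ℂ) := by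
    rw [← hm1, mul_inv_cancel_left₀ hH0]
  have h3 : H991.KGV.InM M (∑ k : ZMod p, (1 - (ZMod.stdAddChar (1 * k) : ℂ)) * (m k : ℂ)) := by
    refine H991.KGV.InM.sum _ fun k _ => ?_
    exact (H991.KGV.one_sub_mem hM (hstd _)).mul (hint (m k))
  have h4 := hsum.add (h3.mul (y := (Nat.card H : ℂ)) (by exact_mod_cast hint (Nat.card H : ℤ)))
  rw [e1] at h4
  convert h4 using 1
  push_cast
  simp only [sub_mul, one_mul, Finset.sum_sub_distrib]
  ring

end Rows

end Cfsg.Agent.H591.TI
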