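import Cfsg.Agent.H591.TI.Bound
import Cfsg.Agent.H644.KGV.Final
import Cfsg.Agent.H616.TI.Defs
import Cfsg.Agent.H613.RegGram
import Cfsg.Agent.S0908
import Cfsg.Agent.S4733

/-!
# Characters of height zero in groups with TI Sylow `p`-subgroups
-/

set_option autoImplicit false
set_option linter.unusedSectionVars false

open Cfsg Finset
open scoped ComplexConjugate Pointwise

namespace Cfsg.Agent.H591.TI

open Cfsg.Agent.H644.KGV Cfsg.Agent.OddOrderCharacters.VChar Cfsg.Agent.Characters.Core
open Cfsg.Agent.Blocks.Local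
open Cfsg.Agent.H666.TI (IsTI)

universe u

theorem index_commutator_congr {A : Type*} {B : Type*} [Group A] [Group B] (e : A ≃* B) :
    (commutator A).index = (commutator B).index := by
  have h : (commutator A).map e.toMonoidHom = commutator B := by
    rw [commutator_def, commutator_def, Subgroup.map_commutator]
    congr 1
    · exact Subgroup.map_top_of_surjective _ e.surjective
    · exact Subgroup.map_top_of_surjective _ e.surjective
  rw [← h]
  exact (Subgroup.index_map_of_bijective (f := e.toMonoidHom) e.bijective _).symm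

/-- **The number of characters of height zero** in a block whose defect group is a TI Sylow
subgroup. -/
theorem k0_le {G : Type u} [Group G] [Finite G] (p : ℕ) [Fact p.Prime]
    (M : Ideal AlgInt) (hM : IsPModular p M) (P : Sylow p G)
    (hTI : ∀ t : G, ∀ u : G, u ∈ (P : Subgroup G) → u ≠ 1 → t * u * t⁻¹ ∈ (P : Subgroup G) →
      t ∈ Subgroup.normalizer ((P : Subgroup G) : Set G))
    (B : Set (IrrCharacter G)) (hB : IsPBlock M B) (hBP : IsDefectGroup p M B (P : Subgroup G)) :
    Nat.card {χ : IrrCharacter G // χ ∈ B ∧ blockHeight p B (χ : G → ℂ) = 0} ≤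
      (commutator ↥(P : Subgroup G)).index := by
  classical
  have hfin : Finite (IrrCharacter G) := finite_irr
  have hcard := S0908.result p M hM B hB _ hBP
  by_cases hP1 : (P : Subgroup G) = ⊥
  · rw [hP1, Subgroup.card_bot] at hcard
    have h0 : blockDefect p B = 0 := by
      by_contra h
      have := Nat.one_lt_pow h (Fact.out : p.Prime).one_lt
      omega
    have h1 := ((S4733.result p M hM B hB).2.1.1 h0).1
    have h2 : Nat.card {χ : IrrCharacter G // χ ∈ B ∧ blockHeight p B (χ : G → ℂ) = 0} ≤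
        Nat.card B :=
      Nat.card_le_card_of_injective (fun x => (⟨x.1, x.2.1⟩ : B))
        (fun a b h => Subtype.ext (congrArg (fun y : B => (y : IrrCharacter G)) h))
    have h3 : (commutator ↥(P : Subgroup G)).index ≠ 0 := Subgroup.index_ne_zero_of_finite
    omega
  -- the normalizer
  have := Fintype.ofFinite G
  obtain ⟨N, hN⟩ : ∃ N : Subgroup G, N = Subgroup.normalizer ((P : Subgroup G) : Set G) := ⟨_, rfl⟩
  have := Fintype.ofFinite N
  have hPN : (P : Subgroup G) ≤ N := hN ▸ Subgroup.le_normalizer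
  obtain ⟨R, hR⟩ : ∃ R : Subgroup N, R = (P : Subgroup G).subgroupOf N := ⟨_, rfl⟩
  have hmem : ∀ n : N, n ∈ R ↔ (n : G) ∈ (P : Subgroup G) := fun n => by
    rw [hR, Subgroup.mem_subgroupOf]
  have hRn : R.Normal := by
    constructor
    intro x hx g
    rw [hmem] at hx ⊢
    have h1 : (g : G) ∈ Subgroup.normalizer ((P : Subgroup G) : Set G) := hN ▸ g.2
    rw [Subgroup.mem_normalizer_iff] at h1
    exact (h1 _).1 hx
  let e : R ≃* (P : Subgroup G) := by
    rw [hR]
    exact Subgroup.subgroupOfEquivOfLe hPN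
  have hRp : IsPGroup p R := P.isPGroup'.of_equiv e.symm
  have hRne : R ≠ ⊥ := by
    intro h
    apply hP1
    rw [eq_bot_iff]
    intro x hx
    have h1 : (⟨x, hPN hx⟩ : N) ∈ R := (hmem _).2 hx
    rw [h, Subgroup.mem_bot] at h1
    rw [Subgroup.mem_bot]
    exact congrArg Subtype.val h1
  have hidx : ¬ p ∣ R.index := by
    have h1 : R.index = (P : Subgroup G).relIndex N := by rw [hR]; rfl
    have h2 : (P : Subgroup G).relIndex N * N.index = (P : Subgroup G).index :=
      Subgroup.relIndex_mul_index hPN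
    intro h
    exact P.not_dvd_index (h2 ▸ Dvd.dvd.mul_right (h1 ▸ h) _)
  have hcop : Nat.Coprime (Nat.card R) R.index := by
    obtain ⟨k, hk⟩ := IsPGroup.iff_card.1 hRp
    rw [hk]
    exact Nat.Coprime.pow_left _ (((Fact.out : p.Prime).coprime_iff_not_dvd).2 hidx)
  obtain ⟨K', hc⟩ := Subgroup.exists_right_complement'_of_coprime hcop
  have hK' : ¬ p ∣ Nat.card K' := by rwa [← hc.symm.index_eq_card]
  have hTI' : ∀ (t : G) (u : N), u ∈ R → u ≠ 1 → (∃ v : N, v ∈ R ∧ t * u * t⁻¹ = v) → t ∈ N := by
    rintro t u hu hu1 ⟨v, hv, hv'⟩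
    rw [hN]
    refine hTI t u ((hmem u).1 hu) (fun h => hu1 (Subtype.ext h)) ?_
    rw [hv']
    exact (hmem v).1 hv
  -- height zero
  have hdef : blockDefect p B = (Nat.card G).factorization p := by
    have h1 := P.card_eq_multiplicity
    rw [hcard] at h1
    exact Nat.pow_right_injective (Fact.out : p.Prime).two_le h1
  have hht : ∀ χ ∈ {χ : IrrCharacter G | χ ∈ B ∧ blockHeight p B (χ : G → ℂ) = 0},
      ¬ MemLocalIdeal M ((χ : G → ℂ) 1) := by
    rintro χ ⟨hχ, h0⟩ h
    have h1 := H613.RegGram.defect_add_eq hχ h0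
    rw [hdef] at h1
    have h2 : (charDegree (χ : G → ℂ)).factorization p = 0 := by omega
    rw [H613.RegGram.apply_one_eq_charDegree, memLocalIdeal_natCast_iff hM] at h
    rcases (Nat.factorization_eq_zero_iff _ _).1 h2 with h3 | h3 | h3
    · exact h3 (Fact.out : p.Prime)
    · exact h3 h
    · exact H613.RegGram.charDegree_ne_zero χ h3
  have hcent : ∀ x : N, x ∈ Subgroup.centralizer (R : Set N) →
      ¬ p ∣ (Subgroup.centralizer ({(x : G)} : Set G)).index := by
    intro x hx h
    have h1 : (P : Subgroup G) ≤ Subgroup.centralizer ({(x : G)} : Set G) := by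
      intro y hy
      rw [Subgroup.mem_centralizer_singleton_iff]
      have h2 := Subgroup.mem_centralizer_iff.1 hx ⟨y, hPN hy⟩ ((hmem _).2 hy)
      exact congrArg Subtype.val h2
    exact P.not_dvd_index (h.trans (Subgroup.index_dvd_of_le h1))
  have key := bound (p := p) N R hRp K' hc hK' hTI' existsK' hRne
    {χ : IrrCharacter G | χ ∈ B ∧ blockHeight p B (χ : G → ℂ) = 0} hM
    (fun χ hχ ψ hψ x hx => block_congr hM hB hχ.1 hψ.1 (hcent x hx)) hht
  rw [index_commutator_congr e] at key
  exact key

/-- The zero height part of S4821. -/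
theorem goalZero : H616.TI.GoalZero.{u} := by
  intro G _ _ p _ M hM hT P B hB hBP
  refine k0_le p M hM P ?_ B hB hBP
  intro t u hu hu1 htu
  refine Sylow.smul_eq_iff_mem_normalizer.1 ?_
  refine hT.sylow_eq (x := t * u * t⁻¹) ?_ htu (fun h => hu1 (conj_eq_one_iff.1 h))
  show t * u * t⁻¹ ∈ ((t • P : Sylow p G) : Subgroup G)
  rw [Sylow.coe_subgroup_smul]
  exact ⟨u, hu, rfl⟩

end Cfsg.Agent.H591.TI
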